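import Cfsg.Agent.Comp.PcX
import Cfsg.Agent.TrX.E

set_option autoImplicit false
set_option maxRecDepth 100000

namespace Cfsg.Agent.Comp.E6M
open Cfsg.Agent.Comp Cfsg.Agent.Schur Cfsg.Agent.Comp.Pc

/-- the table of the extension -/
def TX : List (List (List Nat)) :=
  [[[]],
   [[1, 6], []],
   [[2], [2], []],
   [[3], [3], [3], []],
   [[4], [4, 9, 11], [4, 7], [4, 8, 36, 37], []],
   [[5], [5, 10, 11], [5, 8, 37], [5, 7, 8, 36], [5], []],
   [[6], [6], [6], [6], [6, 14, 16], [6, 15, 16], []],
   [[7], [7, 12, 21], [7], [7], [7], [7], [7, 17, 25], []],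
   [[8], [8, 13, 21], [8], [8], [8], [8], [8, 18, 25], [8], []],
   [[9, 14, 22], [9], [9, 12], [9, 13, 36, 37], [9], [9, 11], [9], [9, 19], [9, 20], []],
   [[10, 15, 22], [10], [10, 13, 37], [10, 12, 13, 36], [10, 11], [10], [10], [10, 19, 20, 36], [10, 19, 37], [10], []],
   [[11, 16], [11], [11, 19, 21], [11, 20, 21, 36, 37], [11], [11], [11, 22], [11], [11], [11], [11], []],
   [[12, 17, 28], [12], [12], [12], [12, 19], [12, 19, 20, 36], [12], [12], [12, 21, 36], [12], [12], [12], []],
   [[13, 18, 28], [13], [13], [13], [13, 20], [13, 19, 37], [13], [13, 21, 36], [13], [13], [13], [13], [13], []],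
   [[14], [14], [14, 17], [14, 18, 36, 37], [14], [14, 16], [14], [14, 23], [14, 24], [14], [14, 22], [14], [14, 26], [14, 27], []],
   [[15], [15], [15, 18, 37], [15, 17, 18, 36], [15, 16], [15], [15], [15, 23, 24, 36], [15, 23, 37], [15, 22], [15], [15], [15, 26, 27, 36], [15, 26, 37], [15], []],
   [[16], [16, 22], [16, 23, 25], [16, 24, 25, 36, 37], [16], [16], [16], [16], [16], [16], [16], [16], [16, 29, 34], [16, 30, 34], [16], [16], []],
   [[17], [17], [17], [17], [17, 23], [17, 23, 24, 36], [17], [17], [17, 25, 36], [17, 26], [17, 26, 27, 36], [17, 29, 35], [17], [17, 28, 36], [17], [17], [17], []],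
   [[18], [18], [18], [18], [18, 24], [18, 23, 37], [18], [18, 25, 36], [18], [18, 27], [18, 26, 37], [18, 30, 35], [18, 28, 36], [18], [18], [18], [18], [18], []],
   [[19, 23, 33], [19], [19], [19, 21, 36], [19], [19], [19, 26, 34], [19], [19], [19], [19], [19], [19], [19], [19, 29], [19, 30, 37], [19], [19, 31], [19, 32], []],
   [[20, 24, 33, 36, 37], [20], [20, 21, 36], [20], [20], [20], [20, 27, 34, 36, 37], [20], [20], [20], [20], [20], [20], [20], [20, 30, 36, 37], [20, 29, 30, 36], [20], [20, 31, 32, 36], [20, 31, 36, 37], [20], []],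
   [[21, 25, 36], [21], [21], [21], [21], [21], [21, 28, 36], [21], [21], [21], [21], [21], [21], [21], [21, 31, 35], [21, 32, 35, 37], [21, 33, 36], [21], [21], [21], [21], []],
   [[22], [22], [22, 26, 28], [22, 27, 28, 36, 37], [22], [22], [22], [22, 29, 33], [22, 30, 33], [22], [22], [22], [22], [22], [22], [22], [22], [22], [22], [22], [22], [22, 34, 36], []],
   [[23], [23, 26, 35], [23], [23, 25, 36], [23], [23], [23], [23], [23], [23, 29], [23, 30, 37], [23], [23, 31], [23, 32], [23], [23], [23], [23], [23], [23], [23, 33, 36], [23], [23], []],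
   [[24], [24, 27, 35, 36, 37], [24, 25, 36], [24], [24], [24], [24], [24], [24], [24, 30, 36, 37], [24, 29, 30, 36], [24], [24, 31, 32, 36], [24, 31, 36, 37], [24], [24], [24], [24], [24], [24, 33, 36], [24], [24], [24], [24], []],
   [[25], [25, 28, 36], [25], [25], [25], [25], [25], [25], [25], [25, 31, 34], [25, 32, 34, 37], [25, 33, 36], [25], [25], [25], [25], [25], [25], [25], [25], [25], [25], [25, 35, 36], [25], [25], []],
   [[26], [26], [26], [26, 28, 36], [26, 29], [26, 30, 37], [26], [26, 31], [26, 32], [26], [26], [26], [26], [26], [26], [26], [26], [26], [26], [26], [26, 34, 36], [26], [26], [26], [26, 35, 36], [26], []],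
   [[27], [27], [27, 28, 36], [27], [27, 30, 36, 37], [27, 29, 30, 36], [27], [27, 31, 32, 36], [27, 31, 36, 37], [27], [27], [27], [27], [27], [27], [27], [27], [27], [27], [27, 34, 36], [27], [27], [27], [27, 35, 36], [27], [27], [27], []],
   [[28], [28], [28], [28], [28, 31, 33], [28, 32, 33, 37], [28], [28], [28], [28], [28], [28, 34, 36], [28], [28], [28], [28], [28, 35, 36], [28], [28], [28], [28], [28], [28], [28], [28], [28], [28], [28], []],
   [[29], [29], [29, 31], [29, 31, 32, 36], [29], [29], [29], [29], [29, 33, 36], [29], [29], [29], [29], [29, 34, 36], [29], [29], [29], [29], [29, 35, 36], [29], [29], [29], [29], [29], [29], [29], [29], [29], [29], []],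
   [[30], [30], [30, 32], [30, 31, 36, 37], [30], [30], [30], [30, 33, 36], [30], [30], [30], [30], [30, 34, 36], [30], [30], [30], [30], [30, 35, 36], [30], [30], [30], [30], [30], [30], [30], [30], [30], [30], [30], [30], []],
   [[31], [31], [31], [31], [31], [31, 33, 36], [31], [31], [31], [31], [31, 34, 36], [31], [31], [31], [31], [31, 35, 36], [31], [31], [31], [31], [31], [31], [31], [31], [31], [31], [31], [31], [31], [31], [31], []],
   [[32], [32], [32], [32], [32, 33, 36], [32], [32], [32], [32], [32, 34, 36], [32], [32], [32], [32], [32, 35, 36], [32], [32], [32], [32], [32], [32], [32], [32], [32], [32], [32], [32], [32], [32], [32], [32], [32], []],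
   [[33], [33, 34, 36], [33], [33], [33], [33], [33, 35, 36], [33], [33], [33], [33], [33], [33], [33], [33], [33], [33], [33], [33], [33], [33], [33], [33], [33], [33], [33], [33], [33], [33], [33], [33], [33], [33], []],
   [[34, 35, 36], [34], [34], [34], [34], [34], [34], [34], [34], [34], [34], [34], [34], [34], [34], [34], [34], [34], [34], [34], [34], [34], [34], [34], [34], [34], [34], [34], [34], [34], [34], [34], [34], [34], []],
   [[35], [35], [35], [35], [35], [35], [35], [35], [35], [35], [35], [35], [35], [35], [35], [35], [35], [35], [35], [35], [35], [35], [35], [35], [35], [35], [35], [35], [35], [35], [35], [35], [35], [35], [35], []],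
   [[36], [36], [36], [36], [36], [36], [36], [36], [36], [36], [36], [36], [36], [36], [36], [36], [36], [36], [36], [36], [36], [36], [36], [36], [36], [36], [36], [36], [36], [36], [36], [36], [36], [36], [36], [36], []],
   [[37], [37], [37], [37], [37], [37], [37], [37], [37], [37], [37], [37], [37], [37], [37], [37], [37], [37], [37], [37], [37], [37], [37], [37], [37], [37], [37], [37], [37], [37], [37], [37], [37], [37], [37], [37], [37], []]]

theorem shX : PCShape 38 (Wt TX) := by unfold PCShape; decide +kernel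

theorem step {k : ℕ} {T' : List (List (List ℕ))} {A : List (List ℕ)}
    (h1 : k < 38 ∧ Cut 38 (fun x => Nat.blt x (k + 1)) TX T' ∧ (∀ u ∈ A, ∀ x ∈ u, x < 63) ∧
      (∀ g < 38, nth [] A g = if g < k + 1 then [] else Wt TX g k) ∧
      cnt (fun x => Nat.blt x (k + 1)) 38 38 = 38 - (k + 1))
    (h2 : mapB (nat_lit 38) TX T' (fun x => Nat.blt x (k + 1)) A (nat_lit 0) (nat_lit 38) = true)
    (h3 : lvB (nat_lit 38) TX T' A k = true) (h : Lv 38 TX (k + 1)) : Lv 38 TX k :=
  Lv.step TrX.ext2 shX (by decide) h1 h2 h3 h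

def B0 : List (List Nat) :=
  [[], [6], [2], [3], [4], [5], [1], [7], [8], [14], [15], [16], [17], [18], [9], [10], [11], [12], [13], [23], [24], [25], [22], [19], [20], [21], [26], [27], [28], [29], [30], [31], [32], [33], [35], [34], [36], [37]]

def B1 : List (List Nat) :=
  [[6], [], [2], [3], [9], [10], [0], [12], [13], [4], [5], [11], [7], [8], [14], [15], [22], [17], [18], [19], [20], [21], [16], [26], [27], [28], [23], [24], [25], [29], [30], [31], [32], [34], [33], [35], [36], [37]]

def B2 : List (List Nat) :=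
  [[0], [1], [], [], [7], [8], [6], [4], [5], [12, 36], [13, 36], [21, 36], [9, 36], [10, 36], [17, 36], [18, 36], [25, 36], [14, 36], [15, 36], [19], [19, 20, 36], [11, 36], [28, 36], [23], [23, 24, 36], [16, 36], [26], [26, 27, 36], [22, 36], [31], [32, 37], [29], [30, 37], [33], [34], [35], [36], [37]]

def B3 : List (List Nat) :=
  [[0], [11], [7], [8], [], [], [16], [2], [3], [9], [9, 10], [1], [19], [20, 36, 37], [14], [14, 15], [6], [23], [24, 36, 37], [12], [13, 36, 37], [21], [22], [17], [18, 36, 37], [25], [29], [30, 36, 37], [33], [26], [27, 36, 37], [31], [31, 32, 36], [28], [34], [35], [36], [37]]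

def B4 : List (List Nat) :=
  [[0], [1], [2, 3], [2], [4, 5], [4], [6], [8], [7, 8, 36], [9, 10], [9], [11], [13], [12, 13, 36], [14, 15], [14], [16], [18], [17, 18, 36], [19, 20, 37], [19, 36, 37], [21], [22], [23, 24, 37], [23, 36, 37], [25], [26, 27, 37], [26, 36, 37], [28], [30], [29, 30, 36], [31, 32, 36, 37], [31, 37], [33], [34], [35], [36], [37]]

def B : ℕ → List (List Nat)
  | 0 => B0
  | 1 => B1
  | 2 => B2
  | 3 => B3
  | _ => B4

def V0 : List (List Nat) :=
  [[], [1, 6], [2], [3], [4], [5], [6], [7], [8], [9, 14, 22], [10, 15, 22], [11, 16], [12, 17, 28], [13, 18, 28], [14], [15], [16], [17], [18], [19, 23, 33], [20, 24, 33, 36, 37], [21, 25, 36], [22], [23], [24], [25], [26], [27], [28], [29], [30], [31], [32], [33], [34, 35, 36], [35], [36], [37]]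

def V1 : List (List Nat) :=
  [[0, 6], [], [2], [3], [4, 9, 11], [5, 10, 11], [6], [7, 12, 21], [8, 13, 21], [9], [10], [11], [12], [13], [14], [15], [16, 22], [17], [18], [19], [20], [21], [22], [23, 26, 35], [24, 27, 35, 36, 37], [25, 28, 36], [26], [27], [28], [29], [30], [31], [32], [33, 34, 36], [34], [35], [36], [37]]

def V2 : List (List Nat) :=
  [[0], [1], [], [3], [4, 7], [5, 8, 37], [6], [7], [8], [9, 12], [10, 13, 37], [11, 19, 21], [12], [13], [14, 17], [15, 18, 37], [16, 23, 25], [17], [18], [19], [20, 21, 36], [21], [22, 26, 28], [23], [24, 25, 36], [25], [26], [27, 28, 36], [28], [29, 31], [30, 32], [31], [32], [33], [34], [35], [36], [37]]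

def V3 : List (List Nat) :=
  [[0], [1], [], [], [4, 8, 36, 37], [5, 7, 8, 36], [6], [7], [8], [9, 13, 36, 37], [10, 12, 13, 36], [11, 20, 21, 36, 37], [12], [13], [14, 18, 36, 37], [15, 17, 18, 36], [16, 24, 25, 36, 37], [17], [18], [19, 21, 36], [20], [21], [22, 27, 28, 36, 37], [23, 25, 36], [24], [25], [26, 28, 36], [27], [28], [29, 31, 32, 36], [30, 31, 36, 37], [31], [32], [33], [34], [35], [36], [37]]

def V4 : List (List Nat) :=
  [[0], [1, 9, 11], [2, 7], [3, 8, 36, 37], [], [5], [6, 14, 16], [7], [8], [9], [10, 11], [11], [12, 19], [13, 20], [14], [15, 16], [16], [17, 23], [18, 24], [19], [20], [21], [22], [23], [24], [25], [26, 29], [27, 30, 36, 37], [28, 31, 33], [29], [30], [31], [32, 33, 36], [33], [34], [35], [36], [37]]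

def V5 : List (List Nat) :=
  [[0], [1, 10, 11], [2, 8, 37], [3, 7, 8, 36], [], [], [6, 15, 16], [7], [8], [9, 11], [10], [11], [12, 19, 20, 36], [13, 19, 37], [14, 16], [15], [16], [17, 23, 24, 36], [18, 23, 37], [19], [20], [21], [22], [23], [24], [25], [26, 30, 37], [27, 29, 30, 36], [28, 32, 33, 37], [29], [30], [31, 33, 36], [32], [33], [34], [35], [36], [37]]

end Cfsg.Agent.Comp.E6M
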