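import Cfsg.Agent.Comp.E6M.XD

set_option autoImplicit false
set_option maxRecDepth 100000

namespace Cfsg.Agent.Comp.E6M
open Cfsg.Agent.Comp Cfsg.Agent.Schur Cfsg.Agent.Comp.Pc

def T0 : List (List (List Nat)) :=
  [[[]],
   [[1], []],
   [[2], [2], []],
   [[3], [3], [3], []],
   [[4], [4, 9, 11], [4, 7], [4, 8, 36, 37], []],
   [[5], [5, 10, 11], [5, 8, 37], [5, 7, 8, 36], [5], []],
   [[6], [6], [6], [6], [6, 14, 16], [6, 15, 16], []],
   [[7], [7, 12, 21], [7], [7], [7], [7], [7, 17, 25], []],
   [[8], [8, 13, 21], [8], [8], [8], [8], [8, 18, 25], [8], []],
   [[9], [9], [9, 12], [9, 13, 36, 37], [9], [9, 11], [9], [9, 19], [9, 20], []],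
   [[10], [10], [10, 13, 37], [10, 12, 13, 36], [10, 11], [10], [10], [10, 19, 20, 36], [10, 19, 37], [10], []],
   [[11], [11], [11, 19, 21], [11, 20, 21, 36, 37], [11], [11], [11, 22], [11], [11], [11], [11], []],
   [[12], [12], [12], [12], [12, 19], [12, 19, 20, 36], [12], [12], [12, 21, 36], [12], [12], [12], []],
   [[13], [13], [13], [13], [13, 20], [13, 19, 37], [13], [13, 21, 36], [13], [13], [13], [13], [13], []],
   [[14], [14], [14, 17], [14, 18, 36, 37], [14], [14, 16], [14], [14, 23], [14, 24], [14], [14, 22], [14], [14, 26], [14, 27], []],
   [[15], [15], [15, 18, 37], [15, 17, 18, 36], [15, 16], [15], [15], [15, 23, 24, 36], [15, 23, 37], [15, 22], [15], [15], [15, 26, 27, 36], [15, 26, 37], [15], []],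
   [[16], [16, 22], [16, 23, 25], [16, 24, 25, 36, 37], [16], [16], [16], [16], [16], [16], [16], [16], [16, 29, 34], [16, 30, 34], [16], [16], []],
   [[17], [17], [17], [17], [17, 23], [17, 23, 24, 36], [17], [17], [17, 25, 36], [17, 26], [17, 26, 27, 36], [17, 29, 35], [17], [17, 28, 36], [17], [17], [17], []],
   [[18], [18], [18], [18], [18, 24], [18, 23, 37], [18], [18, 25, 36], [18], [18, 27], [18, 26, 37], [18, 30, 35], [18, 28, 36], [18], [18], [18], [18], [18], []],
   [[19], [19], [19], [19, 21, 36], [19], [19], [19, 26, 34], [19], [19], [19], [19], [19], [19], [19], [19, 29], [19, 30, 37], [19], [19, 31], [19, 32], []],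
   [[20], [20], [20, 21, 36], [20], [20], [20], [20, 27, 34, 36, 37], [20], [20], [20], [20], [20], [20], [20], [20, 30, 36, 37], [20, 29, 30, 36], [20], [20, 31, 32, 36], [20, 31, 36, 37], [20], []],
   [[21], [21], [21], [21], [21], [21], [21, 28, 36], [21], [21], [21], [21], [21], [21], [21], [21, 31, 35], [21, 32, 35, 37], [21, 33, 36], [21], [21], [21], [21], []],
   [[22], [22], [22, 26, 28], [22, 27, 28, 36, 37], [22], [22], [22], [22, 29, 33], [22, 30, 33], [22], [22], [22], [22], [22], [22], [22], [22], [22], [22], [22], [22], [22, 34, 36], []],
   [[23], [23, 26, 35], [23], [23, 25, 36], [23], [23], [23], [23], [23], [23, 29], [23, 30, 37], [23], [23, 31], [23, 32], [23], [23], [23], [23], [23], [23], [23, 33, 36], [23], [23], []],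
   [[24], [24, 27, 35, 36, 37], [24, 25, 36], [24], [24], [24], [24], [24], [24], [24, 30, 36, 37], [24, 29, 30, 36], [24], [24, 31, 32, 36], [24, 31, 36, 37], [24], [24], [24], [24], [24], [24, 33, 36], [24], [24], [24], [24], []],
   [[25], [25, 28, 36], [25], [25], [25], [25], [25], [25], [25], [25, 31, 34], [25, 32, 34, 37], [25, 33, 36], [25], [25], [25], [25], [25], [25], [25], [25], [25], [25], [25, 35, 36], [25], [25], []],
   [[26], [26], [26], [26, 28, 36], [26, 29], [26, 30, 37], [26], [26, 31], [26, 32], [26], [26], [26], [26], [26], [26], [26], [26], [26], [26], [26], [26, 34, 36], [26], [26], [26], [26, 35, 36], [26], []],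
   [[27], [27], [27, 28, 36], [27], [27, 30, 36, 37], [27, 29, 30, 36], [27], [27, 31, 32, 36], [27, 31, 36, 37], [27], [27], [27], [27], [27], [27], [27], [27], [27], [27], [27, 34, 36], [27], [27], [27], [27, 35, 36], [27], [27], [27], []],
   [[28], [28], [28], [28], [28, 31, 33], [28, 32, 33, 37], [28], [28], [28], [28], [28], [28, 34, 36], [28], [28], [28], [28], [28, 35, 36], [28], [28], [28], [28], [28], [28], [28], [28], [28], [28], [28], []],
   [[29], [29], [29, 31], [29, 31, 32, 36], [29], [29], [29], [29], [29, 33, 36], [29], [29], [29], [29], [29, 34, 36], [29], [29], [29], [29], [29, 35, 36], [29], [29], [29], [29], [29], [29], [29], [29], [29], [29], []],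
   [[30], [30], [30, 32], [30, 31, 36, 37], [30], [30], [30], [30, 33, 36], [30], [30], [30], [30], [30, 34, 36], [30], [30], [30], [30], [30, 35, 36], [30], [30], [30], [30], [30], [30], [30], [30], [30], [30], [30], [30], []],
   [[31], [31], [31], [31], [31], [31, 33, 36], [31], [31], [31], [31], [31, 34, 36], [31], [31], [31], [31], [31, 35, 36], [31], [31], [31], [31], [31], [31], [31], [31], [31], [31], [31], [31], [31], [31], [31], []],
   [[32], [32], [32], [32], [32, 33, 36], [32], [32], [32], [32], [32, 34, 36], [32], [32], [32], [32], [32, 35, 36], [32], [32], [32], [32], [32], [32], [32], [32], [32], [32], [32], [32], [32], [32], [32], [32], [32], []],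
   [[33], [33, 34, 36], [33], [33], [33], [33], [33, 35, 36], [33], [33], [33], [33], [33], [33], [33], [33], [33], [33], [33], [33], [33], [33], [33], [33], [33], [33], [33], [33], [33], [33], [33], [33], [33], [33], []],
   [[34], [34], [34], [34], [34], [34], [34], [34], [34], [34], [34], [34], [34], [34], [34], [34], [34], [34], [34], [34], [34], [34], [34], [34], [34], [34], [34], [34], [34], [34], [34], [34], [34], [34], []],
   [[35], [35], [35], [35], [35], [35], [35], [35], [35], [35], [35], [35], [35], [35], [35], [35], [35], [35], [35], [35], [35], [35], [35], [35], [35], [35], [35], [35], [35], [35], [35], [35], [35], [35], [35], []],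
   [[36], [36], [36], [36], [36], [36], [36], [36], [36], [36], [36], [36], [36], [36], [36], [36], [36], [36], [36], [36], [36], [36], [36], [36], [36], [36], [36], [36], [36], [36], [36], [36], [36], [36], [36], [36], []],
   [[37], [37], [37], [37], [37], [37], [37], [37], [37], [37], [37], [37], [37], [37], [37], [37], [37], [37], [37], [37], [37], [37], [37], [37], [37], [37], [37], [37], [37], [37], [37], [37], [37], [37], [37], [37], [37], []]]

def A0 : List (List Nat) :=
  [[], [1, 6], [2], [3], [4], [5], [6], [7], [8], [9, 14, 22], [10, 15, 22], [11, 16], [12, 17, 28], [13, 18, 28], [14], [15], [16], [17], [18], [19, 23, 33], [20, 24, 33, 36, 37], [21, 25, 36], [22], [23], [24], [25], [26], [27], [28], [29], [30], [31], [32], [33], [34, 35, 36], [35], [36], [37]]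

theorem lv0 (h : Lv 38 TX 1) : Lv 38 TX 0 :=
  step (k := nat_lit 0) (T' := T0) (A := A0) (by decide +kernel) (by decide +kernel) (by decide +kernel) h

def T7 : List (List (List Nat)) :=
  [[[]],
   [[1], []],
   [[2], [2], []],
   [[3], [3], [3], []],
   [[4], [4], [4], [4], []],
   [[5], [5], [5], [5], [5], []],
   [[6], [6], [6], [6], [6], [6], []],
   [[7], [7], [7], [7], [7], [7], [7], []],
   [[8], [8], [8], [8], [8], [8], [8], [8], []],
   [[9], [9], [9], [9], [9], [9], [9], [9], [9, 20], []],
   [[10], [10], [10], [10], [10], [10], [10], [10], [10, 19, 37], [10], []],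
   [[11], [11], [11], [11], [11], [11], [11], [11], [11], [11], [11], []],
   [[12], [12], [12], [12], [12], [12], [12], [12], [12, 21, 36], [12], [12], [12], []],
   [[13], [13], [13], [13], [13], [13], [13], [13], [13], [13], [13], [13], [13], []],
   [[14], [14], [14], [14], [14], [14], [14], [14], [14, 24], [14], [14, 22], [14], [14, 26], [14, 27], []],
   [[15], [15], [15], [15], [15], [15], [15], [15], [15, 23, 37], [15, 22], [15], [15], [15, 26, 27, 36], [15, 26, 37], [15], []],
   [[16], [16], [16], [16], [16], [16], [16], [16], [16], [16], [16], [16], [16, 29, 34], [16, 30, 34], [16], [16], []],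
   [[17], [17], [17], [17], [17], [17], [17], [17], [17, 25, 36], [17, 26], [17, 26, 27, 36], [17, 29, 35], [17], [17, 28, 36], [17], [17], [17], []],
   [[18], [18], [18], [18], [18], [18], [18], [18], [18], [18, 27], [18, 26, 37], [18, 30, 35], [18, 28, 36], [18], [18], [18], [18], [18], []],
   [[19], [19], [19], [19], [19], [19], [19], [19], [19], [19], [19], [19], [19], [19], [19, 29], [19, 30, 37], [19], [19, 31], [19, 32], []],
   [[20], [20], [20], [20], [20], [20], [20], [20], [20], [20], [20], [20], [20], [20], [20, 30, 36, 37], [20, 29, 30, 36], [20], [20, 31, 32, 36], [20, 31, 36, 37], [20], []],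
   [[21], [21], [21], [21], [21], [21], [21], [21], [21], [21], [21], [21], [21], [21], [21, 31, 35], [21, 32, 35, 37], [21, 33, 36], [21], [21], [21], [21], []],
   [[22], [22], [22], [22], [22], [22], [22], [22], [22, 30, 33], [22], [22], [22], [22], [22], [22], [22], [22], [22], [22], [22], [22], [22, 34, 36], []],
   [[23], [23], [23], [23], [23], [23], [23], [23], [23], [23, 29], [23, 30, 37], [23], [23, 31], [23, 32], [23], [23], [23], [23], [23], [23], [23, 33, 36], [23], [23], []],
   [[24], [24], [24], [24], [24], [24], [24], [24], [24], [24, 30, 36, 37], [24, 29, 30, 36], [24], [24, 31, 32, 36], [24, 31, 36, 37], [24], [24], [24], [24], [24], [24, 33, 36], [24], [24], [24], [24], []],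
   [[25], [25], [25], [25], [25], [25], [25], [25], [25], [25, 31, 34], [25, 32, 34, 37], [25, 33, 36], [25], [25], [25], [25], [25], [25], [25], [25], [25], [25], [25, 35, 36], [25], [25], []],
   [[26], [26], [26], [26], [26], [26], [26], [26], [26, 32], [26], [26], [26], [26], [26], [26], [26], [26], [26], [26], [26], [26, 34, 36], [26], [26], [26], [26, 35, 36], [26], []],
   [[27], [27], [27], [27], [27], [27], [27], [27], [27, 31, 36, 37], [27], [27], [27], [27], [27], [27], [27], [27], [27], [27], [27, 34, 36], [27], [27], [27], [27, 35, 36], [27], [27], [27], []],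
   [[28], [28], [28], [28], [28], [28], [28], [28], [28], [28], [28], [28, 34, 36], [28], [28], [28], [28], [28, 35, 36], [28], [28], [28], [28], [28], [28], [28], [28], [28], [28], [28], []],
   [[29], [29], [29], [29], [29], [29], [29], [29], [29, 33, 36], [29], [29], [29], [29], [29, 34, 36], [29], [29], [29], [29], [29, 35, 36], [29], [29], [29], [29], [29], [29], [29], [29], [29], [29], []],
   [[30], [30], [30], [30], [30], [30], [30], [30], [30], [30], [30], [30], [30, 34, 36], [30], [30], [30], [30], [30, 35, 36], [30], [30], [30], [30], [30], [30], [30], [30], [30], [30], [30], [30], []],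
   [[31], [31], [31], [31], [31], [31], [31], [31], [31], [31], [31, 34, 36], [31], [31], [31], [31], [31, 35, 36], [31], [31], [31], [31], [31], [31], [31], [31], [31], [31], [31], [31], [31], [31], [31], []],
   [[32], [32], [32], [32], [32], [32], [32], [32], [32], [32, 34, 36], [32], [32], [32], [32], [32, 35, 36], [32], [32], [32], [32], [32], [32], [32], [32], [32], [32], [32], [32], [32], [32], [32], [32], [32], []],
   [[33], [33], [33], [33], [33], [33], [33], [33], [33], [33], [33], [33], [33], [33], [33], [33], [33], [33], [33], [33], [33], [33], [33], [33], [33], [33], [33], [33], [33], [33], [33], [33], [33], []],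
   [[34], [34], [34], [34], [34], [34], [34], [34], [34], [34], [34], [34], [34], [34], [34], [34], [34], [34], [34], [34], [34], [34], [34], [34], [34], [34], [34], [34], [34], [34], [34], [34], [34], [34], []],
   [[35], [35], [35], [35], [35], [35], [35], [35], [35], [35], [35], [35], [35], [35], [35], [35], [35], [35], [35], [35], [35], [35], [35], [35], [35], [35], [35], [35], [35], [35], [35], [35], [35], [35], [35], []],
   [[36], [36], [36], [36], [36], [36], [36], [36], [36], [36], [36], [36], [36], [36], [36], [36], [36], [36], [36], [36], [36], [36], [36], [36], [36], [36], [36], [36], [36], [36], [36], [36], [36], [36], [36], [36], []],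
   [[37], [37], [37], [37], [37], [37], [37], [37], [37], [37], [37], [37], [37], [37], [37], [37], [37], [37], [37], [37], [37], [37], [37], [37], [37], [37], [37], [37], [37], [37], [37], [37], [37], [37], [37], [37], [37], []]]

def A7 : List (List Nat) :=
  [[], [], [], [], [], [], [], [], [8], [9, 19], [10, 19, 20, 36], [11], [12], [13, 21, 36], [14, 23], [15, 23, 24, 36], [16], [17], [18, 25, 36], [19], [20], [21], [22, 29, 33], [23], [24], [25], [26, 31], [27, 31, 32, 36], [28], [29], [30, 33, 36], [31], [32], [33], [34], [35], [36], [37]]

theorem lv7 (h : Lv 38 TX 8) : Lv 38 TX 7 :=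
  step (k := nat_lit 7) (T' := T7) (A := A7) (by decide +kernel) (by decide +kernel) (by decide +kernel) h

def T11 : List (List (List Nat)) :=
  [[[]],
   [[1], []],
   [[2], [2], []],
   [[3], [3], [3], []],
   [[4], [4], [4], [4], []],
   [[5], [5], [5], [5], [5], []],
   [[6], [6], [6], [6], [6], [6], []],
   [[7], [7], [7], [7], [7], [7], [7], []],
   [[8], [8], [8], [8], [8], [8], [8], [8], []],
   [[9], [9], [9], [9], [9], [9], [9], [9], [9], []],
   [[10], [10], [10], [10], [10], [10], [10], [10], [10], [10], []],
   [[11], [11], [11], [11], [11], [11], [11], [11], [11], [11], [11], []],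
   [[12], [12], [12], [12], [12], [12], [12], [12], [12], [12], [12], [12], []],
   [[13], [13], [13], [13], [13], [13], [13], [13], [13], [13], [13], [13], [13], []],
   [[14], [14], [14], [14], [14], [14], [14], [14], [14], [14], [14], [14], [14, 26], [14, 27], []],
   [[15], [15], [15], [15], [15], [15], [15], [15], [15], [15], [15], [15], [15, 26, 27, 36], [15, 26, 37], [15], []],
   [[16], [16], [16], [16], [16], [16], [16], [16], [16], [16], [16], [16], [16, 29, 34], [16, 30, 34], [16], [16], []],
   [[17], [17], [17], [17], [17], [17], [17], [17], [17], [17], [17], [17], [17], [17, 28, 36], [17], [17], [17], []],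
   [[18], [18], [18], [18], [18], [18], [18], [18], [18], [18], [18], [18], [18, 28, 36], [18], [18], [18], [18], [18], []],
   [[19], [19], [19], [19], [19], [19], [19], [19], [19], [19], [19], [19], [19], [19], [19, 29], [19, 30, 37], [19], [19, 31], [19, 32], []],
   [[20], [20], [20], [20], [20], [20], [20], [20], [20], [20], [20], [20], [20], [20], [20, 30, 36, 37], [20, 29, 30, 36], [20], [20, 31, 32, 36], [20, 31, 36, 37], [20], []],
   [[21], [21], [21], [21], [21], [21], [21], [21], [21], [21], [21], [21], [21], [21], [21, 31, 35], [21, 32, 35, 37], [21, 33, 36], [21], [21], [21], [21], []],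
   [[22], [22], [22], [22], [22], [22], [22], [22], [22], [22], [22], [22], [22], [22], [22], [22], [22], [22], [22], [22], [22], [22, 34, 36], []],
   [[23], [23], [23], [23], [23], [23], [23], [23], [23], [23], [23], [23], [23, 31], [23, 32], [23], [23], [23], [23], [23], [23], [23, 33, 36], [23], [23], []],
   [[24], [24], [24], [24], [24], [24], [24], [24], [24], [24], [24], [24], [24, 31, 32, 36], [24, 31, 36, 37], [24], [24], [24], [24], [24], [24, 33, 36], [24], [24], [24], [24], []],
   [[25], [25], [25], [25], [25], [25], [25], [25], [25], [25], [25], [25], [25], [25], [25], [25], [25], [25], [25], [25], [25], [25], [25, 35, 36], [25], [25], []],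
   [[26], [26], [26], [26], [26], [26], [26], [26], [26], [26], [26], [26], [26], [26], [26], [26], [26], [26], [26], [26], [26, 34, 36], [26], [26], [26], [26, 35, 36], [26], []],
   [[27], [27], [27], [27], [27], [27], [27], [27], [27], [27], [27], [27], [27], [27], [27], [27], [27], [27], [27], [27, 34, 36], [27], [27], [27], [27, 35, 36], [27], [27], [27], []],
   [[28], [28], [28], [28], [28], [28], [28], [28], [28], [28], [28], [28], [28], [28], [28], [28], [28, 35, 36], [28], [28], [28], [28], [28], [28], [28], [28], [28], [28], [28], []],
   [[29], [29], [29], [29], [29], [29], [29], [29], [29], [29], [29], [29], [29], [29, 34, 36], [29], [29], [29], [29], [29, 35, 36], [29], [29], [29], [29], [29], [29], [29], [29], [29], [29], []],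
   [[30], [30], [30], [30], [30], [30], [30], [30], [30], [30], [30], [30], [30, 34, 36], [30], [30], [30], [30], [30, 35, 36], [30], [30], [30], [30], [30], [30], [30], [30], [30], [30], [30], [30], []],
   [[31], [31], [31], [31], [31], [31], [31], [31], [31], [31], [31], [31], [31], [31], [31], [31, 35, 36], [31], [31], [31], [31], [31], [31], [31], [31], [31], [31], [31], [31], [31], [31], [31], []],
   [[32], [32], [32], [32], [32], [32], [32], [32], [32], [32], [32], [32], [32], [32], [32, 35, 36], [32], [32], [32], [32], [32], [32], [32], [32], [32], [32], [32], [32], [32], [32], [32], [32], [32], []],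
   [[33], [33], [33], [33], [33], [33], [33], [33], [33], [33], [33], [33], [33], [33], [33], [33], [33], [33], [33], [33], [33], [33], [33], [33], [33], [33], [33], [33], [33], [33], [33], [33], [33], []],
   [[34], [34], [34], [34], [34], [34], [34], [34], [34], [34], [34], [34], [34], [34], [34], [34], [34], [34], [34], [34], [34], [34], [34], [34], [34], [34], [34], [34], [34], [34], [34], [34], [34], [34], []],
   [[35], [35], [35], [35], [35], [35], [35], [35], [35], [35], [35], [35], [35], [35], [35], [35], [35], [35], [35], [35], [35], [35], [35], [35], [35], [35], [35], [35], [35], [35], [35], [35], [35], [35], [35], []],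
   [[36], [36], [36], [36], [36], [36], [36], [36], [36], [36], [36], [36], [36], [36], [36], [36], [36], [36], [36], [36], [36], [36], [36], [36], [36], [36], [36], [36], [36], [36], [36], [36], [36], [36], [36], [36], []],
   [[37], [37], [37], [37], [37], [37], [37], [37], [37], [37], [37], [37], [37], [37], [37], [37], [37], [37], [37], [37], [37], [37], [37], [37], [37], [37], [37], [37], [37], [37], [37], [37], [37], [37], [37], [37], [37], []]]

def A11 : List (List Nat) :=
  [[], [], [], [], [], [], [], [], [], [], [], [], [12], [13], [14], [15], [16], [17, 29, 35], [18, 30, 35], [19], [20], [21], [22], [23], [24], [25, 33, 36], [26], [27], [28, 34, 36], [29], [30], [31], [32], [33], [34], [35], [36], [37]]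

theorem lv11 (h : Lv 38 TX 12) : Lv 38 TX 11 :=
  step (k := nat_lit 11) (T' := T11) (A := A11) (by decide +kernel) (by decide +kernel) (by decide +kernel) h

def T12 : List (List (List Nat)) :=
  [[[]],
   [[1], []],
   [[2], [2], []],
   [[3], [3], [3], []],
   [[4], [4], [4], [4], []],
   [[5], [5], [5], [5], [5], []],
   [[6], [6], [6], [6], [6], [6], []],
   [[7], [7], [7], [7], [7], [7], [7], []],
   [[8], [8], [8], [8], [8], [8], [8], [8], []],
   [[9], [9], [9], [9], [9], [9], [9], [9], [9], []],
   [[10], [10], [10], [10], [10], [10], [10], [10], [10], [10], []],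
   [[11], [11], [11], [11], [11], [11], [11], [11], [11], [11], [11], []],
   [[12], [12], [12], [12], [12], [12], [12], [12], [12], [12], [12], [12], []],
   [[13], [13], [13], [13], [13], [13], [13], [13], [13], [13], [13], [13], [13], []],
   [[14], [14], [14], [14], [14], [14], [14], [14], [14], [14], [14], [14], [14], [14, 27], []],
   [[15], [15], [15], [15], [15], [15], [15], [15], [15], [15], [15], [15], [15], [15, 26, 37], [15], []],
   [[16], [16], [16], [16], [16], [16], [16], [16], [16], [16], [16], [16], [16], [16, 30, 34], [16], [16], []],
   [[17], [17], [17], [17], [17], [17], [17], [17], [17], [17], [17], [17], [17], [17, 28, 36], [17], [17], [17], []],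
   [[18], [18], [18], [18], [18], [18], [18], [18], [18], [18], [18], [18], [18], [18], [18], [18], [18], [18], []],
   [[19], [19], [19], [19], [19], [19], [19], [19], [19], [19], [19], [19], [19], [19], [19, 29], [19, 30, 37], [19], [19, 31], [19, 32], []],
   [[20], [20], [20], [20], [20], [20], [20], [20], [20], [20], [20], [20], [20], [20], [20, 30, 36, 37], [20, 29, 30, 36], [20], [20, 31, 32, 36], [20, 31, 36, 37], [20], []],
   [[21], [21], [21], [21], [21], [21], [21], [21], [21], [21], [21], [21], [21], [21], [21, 31, 35], [21, 32, 35, 37], [21, 33, 36], [21], [21], [21], [21], []],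
   [[22], [22], [22], [22], [22], [22], [22], [22], [22], [22], [22], [22], [22], [22], [22], [22], [22], [22], [22], [22], [22], [22, 34, 36], []],
   [[23], [23], [23], [23], [23], [23], [23], [23], [23], [23], [23], [23], [23], [23, 32], [23], [23], [23], [23], [23], [23], [23, 33, 36], [23], [23], []],
   [[24], [24], [24], [24], [24], [24], [24], [24], [24], [24], [24], [24], [24], [24, 31, 36, 37], [24], [24], [24], [24], [24], [24, 33, 36], [24], [24], [24], [24], []],
   [[25], [25], [25], [25], [25], [25], [25], [25], [25], [25], [25], [25], [25], [25], [25], [25], [25], [25], [25], [25], [25], [25], [25, 35, 36], [25], [25], []],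
   [[26], [26], [26], [26], [26], [26], [26], [26], [26], [26], [26], [26], [26], [26], [26], [26], [26], [26], [26], [26], [26, 34, 36], [26], [26], [26], [26, 35, 36], [26], []],
   [[27], [27], [27], [27], [27], [27], [27], [27], [27], [27], [27], [27], [27], [27], [27], [27], [27], [27], [27], [27, 34, 36], [27], [27], [27], [27, 35, 36], [27], [27], [27], []],
   [[28], [28], [28], [28], [28], [28], [28], [28], [28], [28], [28], [28], [28], [28], [28], [28], [28, 35, 36], [28], [28], [28], [28], [28], [28], [28], [28], [28], [28], [28], []],
   [[29], [29], [29], [29], [29], [29], [29], [29], [29], [29], [29], [29], [29], [29, 34, 36], [29], [29], [29], [29], [29, 35, 36], [29], [29], [29], [29], [29], [29], [29], [29], [29], [29], []],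
   [[30], [30], [30], [30], [30], [30], [30], [30], [30], [30], [30], [30], [30], [30], [30], [30], [30], [30, 35, 36], [30], [30], [30], [30], [30], [30], [30], [30], [30], [30], [30], [30], []],
   [[31], [31], [31], [31], [31], [31], [31], [31], [31], [31], [31], [31], [31], [31], [31], [31, 35, 36], [31], [31], [31], [31], [31], [31], [31], [31], [31], [31], [31], [31], [31], [31], [31], []],
   [[32], [32], [32], [32], [32], [32], [32], [32], [32], [32], [32], [32], [32], [32], [32, 35, 36], [32], [32], [32], [32], [32], [32], [32], [32], [32], [32], [32], [32], [32], [32], [32], [32], [32], []],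
   [[33], [33], [33], [33], [33], [33], [33], [33], [33], [33], [33], [33], [33], [33], [33], [33], [33], [33], [33], [33], [33], [33], [33], [33], [33], [33], [33], [33], [33], [33], [33], [33], [33], []],
   [[34], [34], [34], [34], [34], [34], [34], [34], [34], [34], [34], [34], [34], [34], [34], [34], [34], [34], [34], [34], [34], [34], [34], [34], [34], [34], [34], [34], [34], [34], [34], [34], [34], [34], []],
   [[35], [35], [35], [35], [35], [35], [35], [35], [35], [35], [35], [35], [35], [35], [35], [35], [35], [35], [35], [35], [35], [35], [35], [35], [35], [35], [35], [35], [35], [35], [35], [35], [35], [35], [35], []],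
   [[36], [36], [36], [36], [36], [36], [36], [36], [36], [36], [36], [36], [36], [36], [36], [36], [36], [36], [36], [36], [36], [36], [36], [36], [36], [36], [36], [36], [36], [36], [36], [36], [36], [36], [36], [36], []],
   [[37], [37], [37], [37], [37], [37], [37], [37], [37], [37], [37], [37], [37], [37], [37], [37], [37], [37], [37], [37], [37], [37], [37], [37], [37], [37], [37], [37], [37], [37], [37], [37], [37], [37], [37], [37], [37], []]]

def A12 : List (List Nat) :=
  [[], [], [], [], [], [], [], [], [], [], [], [], [], [13], [14, 26], [15, 26, 27, 36], [16, 29, 34], [17], [18, 28, 36], [19], [20], [21], [22], [23, 31], [24, 31, 32, 36], [25], [26], [27], [28], [29], [30, 34, 36], [31], [32], [33], [34], [35], [36], [37]]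

theorem lv12 (h : Lv 38 TX 13) : Lv 38 TX 12 :=
  step (k := nat_lit 12) (T' := T12) (A := A12) (by decide +kernel) (by decide +kernel) (by decide +kernel) h

def T19 : List (List (List Nat)) :=
  [[[]],
   [[1], []],
   [[2], [2], []],
   [[3], [3], [3], []],
   [[4], [4], [4], [4], []],
   [[5], [5], [5], [5], [5], []],
   [[6], [6], [6], [6], [6], [6], []],
   [[7], [7], [7], [7], [7], [7], [7], []],
   [[8], [8], [8], [8], [8], [8], [8], [8], []],
   [[9], [9], [9], [9], [9], [9], [9], [9], [9], []],
   [[10], [10], [10], [10], [10], [10], [10], [10], [10], [10], []],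
   [[11], [11], [11], [11], [11], [11], [11], [11], [11], [11], [11], []],
   [[12], [12], [12], [12], [12], [12], [12], [12], [12], [12], [12], [12], []],
   [[13], [13], [13], [13], [13], [13], [13], [13], [13], [13], [13], [13], [13], []],
   [[14], [14], [14], [14], [14], [14], [14], [14], [14], [14], [14], [14], [14], [14], []],
   [[15], [15], [15], [15], [15], [15], [15], [15], [15], [15], [15], [15], [15], [15], [15], []],
   [[16], [16], [16], [16], [16], [16], [16], [16], [16], [16], [16], [16], [16], [16], [16], [16], []],
   [[17], [17], [17], [17], [17], [17], [17], [17], [17], [17], [17], [17], [17], [17], [17], [17], [17], []],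
   [[18], [18], [18], [18], [18], [18], [18], [18], [18], [18], [18], [18], [18], [18], [18], [18], [18], [18], []],
   [[19], [19], [19], [19], [19], [19], [19], [19], [19], [19], [19], [19], [19], [19], [19], [19], [19], [19], [19], []],
   [[20], [20], [20], [20], [20], [20], [20], [20], [20], [20], [20], [20], [20], [20], [20], [20], [20], [20], [20], [20], []],
   [[21], [21], [21], [21], [21], [21], [21], [21], [21], [21], [21], [21], [21], [21], [21], [21], [21], [21], [21], [21], [21], []],
   [[22], [22], [22], [22], [22], [22], [22], [22], [22], [22], [22], [22], [22], [22], [22], [22], [22], [22], [22], [22], [22], [22, 34, 36], []],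
   [[23], [23], [23], [23], [23], [23], [23], [23], [23], [23], [23], [23], [23], [23], [23], [23], [23], [23], [23], [23], [23, 33, 36], [23], [23], []],
   [[24], [24], [24], [24], [24], [24], [24], [24], [24], [24], [24], [24], [24], [24], [24], [24], [24], [24], [24], [24], [24], [24], [24], [24], []],
   [[25], [25], [25], [25], [25], [25], [25], [25], [25], [25], [25], [25], [25], [25], [25], [25], [25], [25], [25], [25], [25], [25], [25, 35, 36], [25], [25], []],
   [[26], [26], [26], [26], [26], [26], [26], [26], [26], [26], [26], [26], [26], [26], [26], [26], [26], [26], [26], [26], [26, 34, 36], [26], [26], [26], [26, 35, 36], [26], []],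
   [[27], [27], [27], [27], [27], [27], [27], [27], [27], [27], [27], [27], [27], [27], [27], [27], [27], [27], [27], [27], [27], [27], [27], [27, 35, 36], [27], [27], [27], []],
   [[28], [28], [28], [28], [28], [28], [28], [28], [28], [28], [28], [28], [28], [28], [28], [28], [28], [28], [28], [28], [28], [28], [28], [28], [28], [28], [28], [28], []],
   [[29], [29], [29], [29], [29], [29], [29], [29], [29], [29], [29], [29], [29], [29], [29], [29], [29], [29], [29], [29], [29], [29], [29], [29], [29], [29], [29], [29], [29], []],
   [[30], [30], [30], [30], [30], [30], [30], [30], [30], [30], [30], [30], [30], [30], [30], [30], [30], [30], [30], [30], [30], [30], [30], [30], [30], [30], [30], [30], [30], [30], []],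
   [[31], [31], [31], [31], [31], [31], [31], [31], [31], [31], [31], [31], [31], [31], [31], [31], [31], [31], [31], [31], [31], [31], [31], [31], [31], [31], [31], [31], [31], [31], [31], []],
   [[32], [32], [32], [32], [32], [32], [32], [32], [32], [32], [32], [32], [32], [32], [32], [32], [32], [32], [32], [32], [32], [32], [32], [32], [32], [32], [32], [32], [32], [32], [32], [32], []],
   [[33], [33], [33], [33], [33], [33], [33], [33], [33], [33], [33], [33], [33], [33], [33], [33], [33], [33], [33], [33], [33], [33], [33], [33], [33], [33], [33], [33], [33], [33], [33], [33], [33], []],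
   [[34], [34], [34], [34], [34], [34], [34], [34], [34], [34], [34], [34], [34], [34], [34], [34], [34], [34], [34], [34], [34], [34], [34], [34], [34], [34], [34], [34], [34], [34], [34], [34], [34], [34], []],
   [[35], [35], [35], [35], [35], [35], [35], [35], [35], [35], [35], [35], [35], [35], [35], [35], [35], [35], [35], [35], [35], [35], [35], [35], [35], [35], [35], [35], [35], [35], [35], [35], [35], [35], [35], []],
   [[36], [36], [36], [36], [36], [36], [36], [36], [36], [36], [36], [36], [36], [36], [36], [36], [36], [36], [36], [36], [36], [36], [36], [36], [36], [36], [36], [36], [36], [36], [36], [36], [36], [36], [36], [36], []],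
   [[37], [37], [37], [37], [37], [37], [37], [37], [37], [37], [37], [37], [37], [37], [37], [37], [37], [37], [37], [37], [37], [37], [37], [37], [37], [37], [37], [37], [37], [37], [37], [37], [37], [37], [37], [37], [37], []]]

def A19 : List (List Nat) :=
  [[], [], [], [], [], [], [], [], [], [], [], [], [], [], [], [], [], [], [], [], [20], [21], [22], [23], [24, 33, 36], [25], [26], [27, 34, 36], [28], [29], [30], [31], [32], [33], [34], [35], [36], [37]]

theorem lv19 (h : Lv 38 TX 20) : Lv 38 TX 19 :=
  step (k := nat_lit 19) (T' := T19) (A := A19) (by decide +kernel) (by decide +kernel) (by decide +kernel) h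

def T20 : List (List (List Nat)) :=
  [[[]],
   [[1], []],
   [[2], [2], []],
   [[3], [3], [3], []],
   [[4], [4], [4], [4], []],
   [[5], [5], [5], [5], [5], []],
   [[6], [6], [6], [6], [6], [6], []],
   [[7], [7], [7], [7], [7], [7], [7], []],
   [[8], [8], [8], [8], [8], [8], [8], [8], []],
   [[9], [9], [9], [9], [9], [9], [9], [9], [9], []],
   [[10], [10], [10], [10], [10], [10], [10], [10], [10], [10], []],
   [[11], [11], [11], [11], [11], [11], [11], [11], [11], [11], [11], []],
   [[12], [12], [12], [12], [12], [12], [12], [12], [12], [12], [12], [12], []],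
   [[13], [13], [13], [13], [13], [13], [13], [13], [13], [13], [13], [13], [13], []],
   [[14], [14], [14], [14], [14], [14], [14], [14], [14], [14], [14], [14], [14], [14], []],
   [[15], [15], [15], [15], [15], [15], [15], [15], [15], [15], [15], [15], [15], [15], [15], []],
   [[16], [16], [16], [16], [16], [16], [16], [16], [16], [16], [16], [16], [16], [16], [16], [16], []],
   [[17], [17], [17], [17], [17], [17], [17], [17], [17], [17], [17], [17], [17], [17], [17], [17], [17], []],
   [[18], [18], [18], [18], [18], [18], [18], [18], [18], [18], [18], [18], [18], [18], [18], [18], [18], [18], []],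
   [[19], [19], [19], [19], [19], [19], [19], [19], [19], [19], [19], [19], [19], [19], [19], [19], [19], [19], [19], []],
   [[20], [20], [20], [20], [20], [20], [20], [20], [20], [20], [20], [20], [20], [20], [20], [20], [20], [20], [20], [20], []],
   [[21], [21], [21], [21], [21], [21], [21], [21], [21], [21], [21], [21], [21], [21], [21], [21], [21], [21], [21], [21], [21], []],
   [[22], [22], [22], [22], [22], [22], [22], [22], [22], [22], [22], [22], [22], [22], [22], [22], [22], [22], [22], [22], [22], [22, 34, 36], []],
   [[23], [23], [23], [23], [23], [23], [23], [23], [23], [23], [23], [23], [23], [23], [23], [23], [23], [23], [23], [23], [23], [23], [23], []],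
   [[24], [24], [24], [24], [24], [24], [24], [24], [24], [24], [24], [24], [24], [24], [24], [24], [24], [24], [24], [24], [24], [24], [24], [24], []],
   [[25], [25], [25], [25], [25], [25], [25], [25], [25], [25], [25], [25], [25], [25], [25], [25], [25], [25], [25], [25], [25], [25], [25, 35, 36], [25], [25], []],
   [[26], [26], [26], [26], [26], [26], [26], [26], [26], [26], [26], [26], [26], [26], [26], [26], [26], [26], [26], [26], [26], [26], [26], [26], [26, 35, 36], [26], []],
   [[27], [27], [27], [27], [27], [27], [27], [27], [27], [27], [27], [27], [27], [27], [27], [27], [27], [27], [27], [27], [27], [27], [27], [27, 35, 36], [27], [27], [27], []],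
   [[28], [28], [28], [28], [28], [28], [28], [28], [28], [28], [28], [28], [28], [28], [28], [28], [28], [28], [28], [28], [28], [28], [28], [28], [28], [28], [28], [28], []],
   [[29], [29], [29], [29], [29], [29], [29], [29], [29], [29], [29], [29], [29], [29], [29], [29], [29], [29], [29], [29], [29], [29], [29], [29], [29], [29], [29], [29], [29], []],
   [[30], [30], [30], [30], [30], [30], [30], [30], [30], [30], [30], [30], [30], [30], [30], [30], [30], [30], [30], [30], [30], [30], [30], [30], [30], [30], [30], [30], [30], [30], []],
   [[31], [31], [31], [31], [31], [31], [31], [31], [31], [31], [31], [31], [31], [31], [31], [31], [31], [31], [31], [31], [31], [31], [31], [31], [31], [31], [31], [31], [31], [31], [31], []],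
   [[32], [32], [32], [32], [32], [32], [32], [32], [32], [32], [32], [32], [32], [32], [32], [32], [32], [32], [32], [32], [32], [32], [32], [32], [32], [32], [32], [32], [32], [32], [32], [32], []],
   [[33], [33], [33], [33], [33], [33], [33], [33], [33], [33], [33], [33], [33], [33], [33], [33], [33], [33], [33], [33], [33], [33], [33], [33], [33], [33], [33], [33], [33], [33], [33], [33], [33], []],
   [[34], [34], [34], [34], [34], [34], [34], [34], [34], [34], [34], [34], [34], [34], [34], [34], [34], [34], [34], [34], [34], [34], [34], [34], [34], [34], [34], [34], [34], [34], [34], [34], [34], [34], []],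
   [[35], [35], [35], [35], [35], [35], [35], [35], [35], [35], [35], [35], [35], [35], [35], [35], [35], [35], [35], [35], [35], [35], [35], [35], [35], [35], [35], [35], [35], [35], [35], [35], [35], [35], [35], []],
   [[36], [36], [36], [36], [36], [36], [36], [36], [36], [36], [36], [36], [36], [36], [36], [36], [36], [36], [36], [36], [36], [36], [36], [36], [36], [36], [36], [36], [36], [36], [36], [36], [36], [36], [36], [36], []],
   [[37], [37], [37], [37], [37], [37], [37], [37], [37], [37], [37], [37], [37], [37], [37], [37], [37], [37], [37], [37], [37], [37], [37], [37], [37], [37], [37], [37], [37], [37], [37], [37], [37], [37], [37], [37], [37], []]]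

def A20 : List (List Nat) :=
  [[], [], [], [], [], [], [], [], [], [], [], [], [], [], [], [], [], [], [], [], [], [21], [22], [23, 33, 36], [24], [25], [26, 34, 36], [27], [28], [29], [30], [31], [32], [33], [34], [35], [36], [37]]

theorem lv20 (h : Lv 38 TX 21) : Lv 38 TX 20 :=
  step (k := nat_lit 20) (T' := T20) (A := A20) (by decide +kernel) (by decide +kernel) (by decide +kernel) h

def T26 : List (List (List Nat)) :=
  [[[]],
   [[1], []],
   [[2], [2], []],
   [[3], [3], [3], []],
   [[4], [4], [4], [4], []],
   [[5], [5], [5], [5], [5], []],
   [[6], [6], [6], [6], [6], [6], []],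
   [[7], [7], [7], [7], [7], [7], [7], []],
   [[8], [8], [8], [8], [8], [8], [8], [8], []],
   [[9], [9], [9], [9], [9], [9], [9], [9], [9], []],
   [[10], [10], [10], [10], [10], [10], [10], [10], [10], [10], []],
   [[11], [11], [11], [11], [11], [11], [11], [11], [11], [11], [11], []],
   [[12], [12], [12], [12], [12], [12], [12], [12], [12], [12], [12], [12], []],
   [[13], [13], [13], [13], [13], [13], [13], [13], [13], [13], [13], [13], [13], []],
   [[14], [14], [14], [14], [14], [14], [14], [14], [14], [14], [14], [14], [14], [14], []],
   [[15], [15], [15], [15], [15], [15], [15], [15], [15], [15], [15], [15], [15], [15], [15], []],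
   [[16], [16], [16], [16], [16], [16], [16], [16], [16], [16], [16], [16], [16], [16], [16], [16], []],
   [[17], [17], [17], [17], [17], [17], [17], [17], [17], [17], [17], [17], [17], [17], [17], [17], [17], []],
   [[18], [18], [18], [18], [18], [18], [18], [18], [18], [18], [18], [18], [18], [18], [18], [18], [18], [18], []],
   [[19], [19], [19], [19], [19], [19], [19], [19], [19], [19], [19], [19], [19], [19], [19], [19], [19], [19], [19], []],
   [[20], [20], [20], [20], [20], [20], [20], [20], [20], [20], [20], [20], [20], [20], [20], [20], [20], [20], [20], [20], []],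
   [[21], [21], [21], [21], [21], [21], [21], [21], [21], [21], [21], [21], [21], [21], [21], [21], [21], [21], [21], [21], [21], []],
   [[22], [22], [22], [22], [22], [22], [22], [22], [22], [22], [22], [22], [22], [22], [22], [22], [22], [22], [22], [22], [22], [22], []],
   [[23], [23], [23], [23], [23], [23], [23], [23], [23], [23], [23], [23], [23], [23], [23], [23], [23], [23], [23], [23], [23], [23], [23], []],
   [[24], [24], [24], [24], [24], [24], [24], [24], [24], [24], [24], [24], [24], [24], [24], [24], [24], [24], [24], [24], [24], [24], [24], [24], []],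
   [[25], [25], [25], [25], [25], [25], [25], [25], [25], [25], [25], [25], [25], [25], [25], [25], [25], [25], [25], [25], [25], [25], [25], [25], [25], []],
   [[26], [26], [26], [26], [26], [26], [26], [26], [26], [26], [26], [26], [26], [26], [26], [26], [26], [26], [26], [26], [26], [26], [26], [26], [26], [26], []],
   [[27], [27], [27], [27], [27], [27], [27], [27], [27], [27], [27], [27], [27], [27], [27], [27], [27], [27], [27], [27], [27], [27], [27], [27], [27], [27], [27], []],
   [[28], [28], [28], [28], [28], [28], [28], [28], [28], [28], [28], [28], [28], [28], [28], [28], [28], [28], [28], [28], [28], [28], [28], [28], [28], [28], [28], [28], []],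
   [[29], [29], [29], [29], [29], [29], [29], [29], [29], [29], [29], [29], [29], [29], [29], [29], [29], [29], [29], [29], [29], [29], [29], [29], [29], [29], [29], [29], [29], []],
   [[30], [30], [30], [30], [30], [30], [30], [30], [30], [30], [30], [30], [30], [30], [30], [30], [30], [30], [30], [30], [30], [30], [30], [30], [30], [30], [30], [30], [30], [30], []],
   [[31], [31], [31], [31], [31], [31], [31], [31], [31], [31], [31], [31], [31], [31], [31], [31], [31], [31], [31], [31], [31], [31], [31], [31], [31], [31], [31], [31], [31], [31], [31], []],
   [[32], [32], [32], [32], [32], [32], [32], [32], [32], [32], [32], [32], [32], [32], [32], [32], [32], [32], [32], [32], [32], [32], [32], [32], [32], [32], [32], [32], [32], [32], [32], [32], []],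
   [[33], [33], [33], [33], [33], [33], [33], [33], [33], [33], [33], [33], [33], [33], [33], [33], [33], [33], [33], [33], [33], [33], [33], [33], [33], [33], [33], [33], [33], [33], [33], [33], [33], []],
   [[34], [34], [34], [34], [34], [34], [34], [34], [34], [34], [34], [34], [34], [34], [34], [34], [34], [34], [34], [34], [34], [34], [34], [34], [34], [34], [34], [34], [34], [34], [34], [34], [34], [34], []],
   [[35], [35], [35], [35], [35], [35], [35], [35], [35], [35], [35], [35], [35], [35], [35], [35], [35], [35], [35], [35], [35], [35], [35], [35], [35], [35], [35], [35], [35], [35], [35], [35], [35], [35], [35], []],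
   [[36], [36], [36], [36], [36], [36], [36], [36], [36], [36], [36], [36], [36], [36], [36], [36], [36], [36], [36], [36], [36], [36], [36], [36], [36], [36], [36], [36], [36], [36], [36], [36], [36], [36], [36], [36], []],
   [[37], [37], [37], [37], [37], [37], [37], [37], [37], [37], [37], [37], [37], [37], [37], [37], [37], [37], [37], [37], [37], [37], [37], [37], [37], [37], [37], [37], [37], [37], [37], [37], [37], [37], [37], [37], [37], []]]

def A26 : List (List Nat) :=
  [[], [], [], [], [], [], [], [], [], [], [], [], [], [], [], [], [], [], [], [], [], [], [], [], [], [], [], [27], [28], [29], [30], [31], [32], [33], [34], [35], [36], [37]]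

theorem lv26 (h : Lv 38 TX 27) : Lv 38 TX 26 :=
  step (k := nat_lit 26) (T' := T26) (A := A26) (by decide +kernel) (by decide +kernel) (by decide +kernel) h

def T29 : List (List (List Nat)) :=
  [[[]],
   [[1], []],
   [[2], [2], []],
   [[3], [3], [3], []],
   [[4], [4], [4], [4], []],
   [[5], [5], [5], [5], [5], []],
   [[6], [6], [6], [6], [6], [6], []],
   [[7], [7], [7], [7], [7], [7], [7], []],
   [[8], [8], [8], [8], [8], [8], [8], [8], []],
   [[9], [9], [9], [9], [9], [9], [9], [9], [9], []],
   [[10], [10], [10], [10], [10], [10], [10], [10], [10], [10], []],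
   [[11], [11], [11], [11], [11], [11], [11], [11], [11], [11], [11], []],
   [[12], [12], [12], [12], [12], [12], [12], [12], [12], [12], [12], [12], []],
   [[13], [13], [13], [13], [13], [13], [13], [13], [13], [13], [13], [13], [13], []],
   [[14], [14], [14], [14], [14], [14], [14], [14], [14], [14], [14], [14], [14], [14], []],
   [[15], [15], [15], [15], [15], [15], [15], [15], [15], [15], [15], [15], [15], [15], [15], []],
   [[16], [16], [16], [16], [16], [16], [16], [16], [16], [16], [16], [16], [16], [16], [16], [16], []],
   [[17], [17], [17], [17], [17], [17], [17], [17], [17], [17], [17], [17], [17], [17], [17], [17], [17], []],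
   [[18], [18], [18], [18], [18], [18], [18], [18], [18], [18], [18], [18], [18], [18], [18], [18], [18], [18], []],
   [[19], [19], [19], [19], [19], [19], [19], [19], [19], [19], [19], [19], [19], [19], [19], [19], [19], [19], [19], []],
   [[20], [20], [20], [20], [20], [20], [20], [20], [20], [20], [20], [20], [20], [20], [20], [20], [20], [20], [20], [20], []],
   [[21], [21], [21], [21], [21], [21], [21], [21], [21], [21], [21], [21], [21], [21], [21], [21], [21], [21], [21], [21], [21], []],
   [[22], [22], [22], [22], [22], [22], [22], [22], [22], [22], [22], [22], [22], [22], [22], [22], [22], [22], [22], [22], [22], [22], []],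
   [[23], [23], [23], [23], [23], [23], [23], [23], [23], [23], [23], [23], [23], [23], [23], [23], [23], [23], [23], [23], [23], [23], [23], []],
   [[24], [24], [24], [24], [24], [24], [24], [24], [24], [24], [24], [24], [24], [24], [24], [24], [24], [24], [24], [24], [24], [24], [24], [24], []],
   [[25], [25], [25], [25], [25], [25], [25], [25], [25], [25], [25], [25], [25], [25], [25], [25], [25], [25], [25], [25], [25], [25], [25], [25], [25], []],
   [[26], [26], [26], [26], [26], [26], [26], [26], [26], [26], [26], [26], [26], [26], [26], [26], [26], [26], [26], [26], [26], [26], [26], [26], [26], [26], []],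
   [[27], [27], [27], [27], [27], [27], [27], [27], [27], [27], [27], [27], [27], [27], [27], [27], [27], [27], [27], [27], [27], [27], [27], [27], [27], [27], [27], []],
   [[28], [28], [28], [28], [28], [28], [28], [28], [28], [28], [28], [28], [28], [28], [28], [28], [28], [28], [28], [28], [28], [28], [28], [28], [28], [28], [28], [28], []],
   [[29], [29], [29], [29], [29], [29], [29], [29], [29], [29], [29], [29], [29], [29], [29], [29], [29], [29], [29], [29], [29], [29], [29], [29], [29], [29], [29], [29], [29], []],
   [[30], [30], [30], [30], [30], [30], [30], [30], [30], [30], [30], [30], [30], [30], [30], [30], [30], [30], [30], [30], [30], [30], [30], [30], [30], [30], [30], [30], [30], [30], []],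
   [[31], [31], [31], [31], [31], [31], [31], [31], [31], [31], [31], [31], [31], [31], [31], [31], [31], [31], [31], [31], [31], [31], [31], [31], [31], [31], [31], [31], [31], [31], [31], []],
   [[32], [32], [32], [32], [32], [32], [32], [32], [32], [32], [32], [32], [32], [32], [32], [32], [32], [32], [32], [32], [32], [32], [32], [32], [32], [32], [32], [32], [32], [32], [32], [32], []],
   [[33], [33], [33], [33], [33], [33], [33], [33], [33], [33], [33], [33], [33], [33], [33], [33], [33], [33], [33], [33], [33], [33], [33], [33], [33], [33], [33], [33], [33], [33], [33], [33], [33], []],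
   [[34], [34], [34], [34], [34], [34], [34], [34], [34], [34], [34], [34], [34], [34], [34], [34], [34], [34], [34], [34], [34], [34], [34], [34], [34], [34], [34], [34], [34], [34], [34], [34], [34], [34], []],
   [[35], [35], [35], [35], [35], [35], [35], [35], [35], [35], [35], [35], [35], [35], [35], [35], [35], [35], [35], [35], [35], [35], [35], [35], [35], [35], [35], [35], [35], [35], [35], [35], [35], [35], [35], []],
   [[36], [36], [36], [36], [36], [36], [36], [36], [36], [36], [36], [36], [36], [36], [36], [36], [36], [36], [36], [36], [36], [36], [36], [36], [36], [36], [36], [36], [36], [36], [36], [36], [36], [36], [36], [36], []],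
   [[37], [37], [37], [37], [37], [37], [37], [37], [37], [37], [37], [37], [37], [37], [37], [37], [37], [37], [37], [37], [37], [37], [37], [37], [37], [37], [37], [37], [37], [37], [37], [37], [37], [37], [37], [37], [37], []]]

def A29 : List (List Nat) :=
  [[], [], [], [], [], [], [], [], [], [], [], [], [], [], [], [], [], [], [], [], [], [], [], [], [], [], [], [], [], [], [30], [31], [32], [33], [34], [35], [36], [37]]

theorem lv29 (h : Lv 38 TX 30) : Lv 38 TX 29 :=
  step (k := nat_lit 29) (T' := T29) (A := A29) (by decide +kernel) (by decide +kernel) (by decide +kernel) h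

def T32 : List (List (List Nat)) :=
  [[[]],
   [[1], []],
   [[2], [2], []],
   [[3], [3], [3], []],
   [[4], [4], [4], [4], []],
   [[5], [5], [5], [5], [5], []],
   [[6], [6], [6], [6], [6], [6], []],
   [[7], [7], [7], [7], [7], [7], [7], []],
   [[8], [8], [8], [8], [8], [8], [8], [8], []],
   [[9], [9], [9], [9], [9], [9], [9], [9], [9], []],
   [[10], [10], [10], [10], [10], [10], [10], [10], [10], [10], []],
   [[11], [11], [11], [11], [11], [11], [11], [11], [11], [11], [11], []],
   [[12], [12], [12], [12], [12], [12], [12], [12], [12], [12], [12], [12], []],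
   [[13], [13], [13], [13], [13], [13], [13], [13], [13], [13], [13], [13], [13], []],
   [[14], [14], [14], [14], [14], [14], [14], [14], [14], [14], [14], [14], [14], [14], []],
   [[15], [15], [15], [15], [15], [15], [15], [15], [15], [15], [15], [15], [15], [15], [15], []],
   [[16], [16], [16], [16], [16], [16], [16], [16], [16], [16], [16], [16], [16], [16], [16], [16], []],
   [[17], [17], [17], [17], [17], [17], [17], [17], [17], [17], [17], [17], [17], [17], [17], [17], [17], []],
   [[18], [18], [18], [18], [18], [18], [18], [18], [18], [18], [18], [18], [18], [18], [18], [18], [18], [18], []],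
   [[19], [19], [19], [19], [19], [19], [19], [19], [19], [19], [19], [19], [19], [19], [19], [19], [19], [19], [19], []],
   [[20], [20], [20], [20], [20], [20], [20], [20], [20], [20], [20], [20], [20], [20], [20], [20], [20], [20], [20], [20], []],
   [[21], [21], [21], [21], [21], [21], [21], [21], [21], [21], [21], [21], [21], [21], [21], [21], [21], [21], [21], [21], [21], []],
   [[22], [22], [22], [22], [22], [22], [22], [22], [22], [22], [22], [22], [22], [22], [22], [22], [22], [22], [22], [22], [22], [22], []],
   [[23], [23], [23], [23], [23], [23], [23], [23], [23], [23], [23], [23], [23], [23], [23], [23], [23], [23], [23], [23], [23], [23], [23], []],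
   [[24], [24], [24], [24], [24], [24], [24], [24], [24], [24], [24], [24], [24], [24], [24], [24], [24], [24], [24], [24], [24], [24], [24], [24], []],
   [[25], [25], [25], [25], [25], [25], [25], [25], [25], [25], [25], [25], [25], [25], [25], [25], [25], [25], [25], [25], [25], [25], [25], [25], [25], []],
   [[26], [26], [26], [26], [26], [26], [26], [26], [26], [26], [26], [26], [26], [26], [26], [26], [26], [26], [26], [26], [26], [26], [26], [26], [26], [26], []],
   [[27], [27], [27], [27], [27], [27], [27], [27], [27], [27], [27], [27], [27], [27], [27], [27], [27], [27], [27], [27], [27], [27], [27], [27], [27], [27], [27], []],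
   [[28], [28], [28], [28], [28], [28], [28], [28], [28], [28], [28], [28], [28], [28], [28], [28], [28], [28], [28], [28], [28], [28], [28], [28], [28], [28], [28], [28], []],
   [[29], [29], [29], [29], [29], [29], [29], [29], [29], [29], [29], [29], [29], [29], [29], [29], [29], [29], [29], [29], [29], [29], [29], [29], [29], [29], [29], [29], [29], []],
   [[30], [30], [30], [30], [30], [30], [30], [30], [30], [30], [30], [30], [30], [30], [30], [30], [30], [30], [30], [30], [30], [30], [30], [30], [30], [30], [30], [30], [30], [30], []],
   [[31], [31], [31], [31], [31], [31], [31], [31], [31], [31], [31], [31], [31], [31], [31], [31], [31], [31], [31], [31], [31], [31], [31], [31], [31], [31], [31], [31], [31], [31], [31], []],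
   [[32], [32], [32], [32], [32], [32], [32], [32], [32], [32], [32], [32], [32], [32], [32], [32], [32], [32], [32], [32], [32], [32], [32], [32], [32], [32], [32], [32], [32], [32], [32], [32], []],
   [[33], [33], [33], [33], [33], [33], [33], [33], [33], [33], [33], [33], [33], [33], [33], [33], [33], [33], [33], [33], [33], [33], [33], [33], [33], [33], [33], [33], [33], [33], [33], [33], [33], []],
   [[34], [34], [34], [34], [34], [34], [34], [34], [34], [34], [34], [34], [34], [34], [34], [34], [34], [34], [34], [34], [34], [34], [34], [34], [34], [34], [34], [34], [34], [34], [34], [34], [34], [34], []],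
   [[35], [35], [35], [35], [35], [35], [35], [35], [35], [35], [35], [35], [35], [35], [35], [35], [35], [35], [35], [35], [35], [35], [35], [35], [35], [35], [35], [35], [35], [35], [35], [35], [35], [35], [35], []],
   [[36], [36], [36], [36], [36], [36], [36], [36], [36], [36], [36], [36], [36], [36], [36], [36], [36], [36], [36], [36], [36], [36], [36], [36], [36], [36], [36], [36], [36], [36], [36], [36], [36], [36], [36], [36], []],
   [[37], [37], [37], [37], [37], [37], [37], [37], [37], [37], [37], [37], [37], [37], [37], [37], [37], [37], [37], [37], [37], [37], [37], [37], [37], [37], [37], [37], [37], [37], [37], [37], [37], [37], [37], [37], [37], []]]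

def A32 : List (List Nat) :=
  [[], [], [], [], [], [], [], [], [], [], [], [], [], [], [], [], [], [], [], [], [], [], [], [], [], [], [], [], [], [], [], [], [], [33], [34], [35], [36], [37]]

theorem lv32 (h : Lv 38 TX 33) : Lv 38 TX 32 :=
  step (k := nat_lit 32) (T' := T32) (A := A32) (by decide +kernel) (by decide +kernel) (by decide +kernel) h

end Cfsg.Agent.Comp.E6M
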