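import Cfsg.Agent.Comp.E6M.XD

set_option autoImplicit false
set_option maxRecDepth 100000

namespace Cfsg.Agent.Comp.E6M
open Cfsg.Agent.Comp Cfsg.Agent.Schur Cfsg.Agent.Comp.Pc

def T2 : List (List (List Nat)) :=
  [[[]],
   [[1], []],
   [[2], [2], []],
   [[3], [3], [3], []],
   [[4], [4], [4], [4, 8, 36, 37], []],
   [[5], [5], [5], [5, 7, 8, 36], [5], []],
   [[6], [6], [6], [6], [6, 14, 16], [6, 15, 16], []],
   [[7], [7], [7], [7], [7], [7], [7, 17, 25], []],
   [[8], [8], [8], [8], [8], [8], [8, 18, 25], [8], []],
   [[9], [9], [9], [9, 13, 36, 37], [9], [9, 11], [9], [9, 19], [9, 20], []],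
   [[10], [10], [10], [10, 12, 13, 36], [10, 11], [10], [10], [10, 19, 20, 36], [10, 19, 37], [10], []],
   [[11], [11], [11], [11, 20, 21, 36, 37], [11], [11], [11, 22], [11], [11], [11], [11], []],
   [[12], [12], [12], [12], [12, 19], [12, 19, 20, 36], [12], [12], [12, 21, 36], [12], [12], [12], []],
   [[13], [13], [13], [13], [13, 20], [13, 19, 37], [13], [13, 21, 36], [13], [13], [13], [13], [13], []],
   [[14], [14], [14], [14, 18, 36, 37], [14], [14, 16], [14], [14, 23], [14, 24], [14], [14, 22], [14], [14, 26], [14, 27], []],
   [[15], [15], [15], [15, 17, 18, 36], [15, 16], [15], [15], [15, 23, 24, 36], [15, 23, 37], [15, 22], [15], [15], [15, 26, 27, 36], [15, 26, 37], [15], []],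
   [[16], [16], [16], [16, 24, 25, 36, 37], [16], [16], [16], [16], [16], [16], [16], [16], [16, 29, 34], [16, 30, 34], [16], [16], []],
   [[17], [17], [17], [17], [17, 23], [17, 23, 24, 36], [17], [17], [17, 25, 36], [17, 26], [17, 26, 27, 36], [17, 29, 35], [17], [17, 28, 36], [17], [17], [17], []],
   [[18], [18], [18], [18], [18, 24], [18, 23, 37], [18], [18, 25, 36], [18], [18, 27], [18, 26, 37], [18, 30, 35], [18, 28, 36], [18], [18], [18], [18], [18], []],
   [[19], [19], [19], [19, 21, 36], [19], [19], [19, 26, 34], [19], [19], [19], [19], [19], [19], [19], [19, 29], [19, 30, 37], [19], [19, 31], [19, 32], []],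
   [[20], [20], [20], [20], [20], [20], [20, 27, 34, 36, 37], [20], [20], [20], [20], [20], [20], [20], [20, 30, 36, 37], [20, 29, 30, 36], [20], [20, 31, 32, 36], [20, 31, 36, 37], [20], []],
   [[21], [21], [21], [21], [21], [21], [21, 28, 36], [21], [21], [21], [21], [21], [21], [21], [21, 31, 35], [21, 32, 35, 37], [21, 33, 36], [21], [21], [21], [21], []],
   [[22], [22], [22], [22, 27, 28, 36, 37], [22], [22], [22], [22, 29, 33], [22, 30, 33], [22], [22], [22], [22], [22], [22], [22], [22], [22], [22], [22], [22], [22, 34, 36], []],
   [[23], [23], [23], [23, 25, 36], [23], [23], [23], [23], [23], [23, 29], [23, 30, 37], [23], [23, 31], [23, 32], [23], [23], [23], [23], [23], [23], [23, 33, 36], [23], [23], []],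
   [[24], [24], [24], [24], [24], [24], [24], [24], [24], [24, 30, 36, 37], [24, 29, 30, 36], [24], [24, 31, 32, 36], [24, 31, 36, 37], [24], [24], [24], [24], [24], [24, 33, 36], [24], [24], [24], [24], []],
   [[25], [25], [25], [25], [25], [25], [25], [25], [25], [25, 31, 34], [25, 32, 34, 37], [25, 33, 36], [25], [25], [25], [25], [25], [25], [25], [25], [25], [25], [25, 35, 36], [25], [25], []],
   [[26], [26], [26], [26, 28, 36], [26, 29], [26, 30, 37], [26], [26, 31], [26, 32], [26], [26], [26], [26], [26], [26], [26], [26], [26], [26], [26], [26, 34, 36], [26], [26], [26], [26, 35, 36], [26], []],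
   [[27], [27], [27], [27], [27, 30, 36, 37], [27, 29, 30, 36], [27], [27, 31, 32, 36], [27, 31, 36, 37], [27], [27], [27], [27], [27], [27], [27], [27], [27], [27], [27, 34, 36], [27], [27], [27], [27, 35, 36], [27], [27], [27], []],
   [[28], [28], [28], [28], [28, 31, 33], [28, 32, 33, 37], [28], [28], [28], [28], [28], [28, 34, 36], [28], [28], [28], [28], [28, 35, 36], [28], [28], [28], [28], [28], [28], [28], [28], [28], [28], [28], []],
   [[29], [29], [29], [29, 31, 32, 36], [29], [29], [29], [29], [29, 33, 36], [29], [29], [29], [29], [29, 34, 36], [29], [29], [29], [29], [29, 35, 36], [29], [29], [29], [29], [29], [29], [29], [29], [29], [29], []],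
   [[30], [30], [30], [30, 31, 36, 37], [30], [30], [30], [30, 33, 36], [30], [30], [30], [30], [30, 34, 36], [30], [30], [30], [30], [30, 35, 36], [30], [30], [30], [30], [30], [30], [30], [30], [30], [30], [30], [30], []],
   [[31], [31], [31], [31], [31], [31, 33, 36], [31], [31], [31], [31], [31, 34, 36], [31], [31], [31], [31], [31, 35, 36], [31], [31], [31], [31], [31], [31], [31], [31], [31], [31], [31], [31], [31], [31], [31], []],
   [[32], [32], [32], [32], [32, 33, 36], [32], [32], [32], [32], [32, 34, 36], [32], [32], [32], [32], [32, 35, 36], [32], [32], [32], [32], [32], [32], [32], [32], [32], [32], [32], [32], [32], [32], [32], [32], [32], []],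
   [[33], [33], [33], [33], [33], [33], [33, 35, 36], [33], [33], [33], [33], [33], [33], [33], [33], [33], [33], [33], [33], [33], [33], [33], [33], [33], [33], [33], [33], [33], [33], [33], [33], [33], [33], []],
   [[34], [34], [34], [34], [34], [34], [34], [34], [34], [34], [34], [34], [34], [34], [34], [34], [34], [34], [34], [34], [34], [34], [34], [34], [34], [34], [34], [34], [34], [34], [34], [34], [34], [34], []],
   [[35], [35], [35], [35], [35], [35], [35], [35], [35], [35], [35], [35], [35], [35], [35], [35], [35], [35], [35], [35], [35], [35], [35], [35], [35], [35], [35], [35], [35], [35], [35], [35], [35], [35], [35], []],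
   [[36], [36], [36], [36], [36], [36], [36], [36], [36], [36], [36], [36], [36], [36], [36], [36], [36], [36], [36], [36], [36], [36], [36], [36], [36], [36], [36], [36], [36], [36], [36], [36], [36], [36], [36], [36], []],
   [[37], [37], [37], [37], [37], [37], [37], [37], [37], [37], [37], [37], [37], [37], [37], [37], [37], [37], [37], [37], [37], [37], [37], [37], [37], [37], [37], [37], [37], [37], [37], [37], [37], [37], [37], [37], [37], []]]

def A2 : List (List Nat) :=
  [[], [], [], [3], [4, 7], [5, 8, 37], [6], [7], [8], [9, 12], [10, 13, 37], [11, 19, 21], [12], [13], [14, 17], [15, 18, 37], [16, 23, 25], [17], [18], [19], [20, 21, 36], [21], [22, 26, 28], [23], [24, 25, 36], [25], [26], [27, 28, 36], [28], [29, 31], [30, 32], [31], [32], [33], [34], [35], [36], [37]]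

theorem lv2 (h : Lv 38 TX 3) : Lv 38 TX 2 :=
  step (k := nat_lit 2) (T' := T2) (A := A2) (by decide +kernel) (by decide +kernel) (by decide +kernel) h

def T5 : List (List (List Nat)) :=
  [[[]],
   [[1], []],
   [[2], [2], []],
   [[3], [3], [3], []],
   [[4], [4], [4], [4], []],
   [[5], [5], [5], [5], [5], []],
   [[6], [6], [6], [6], [6], [6], []],
   [[7], [7], [7], [7], [7], [7], [7, 17, 25], []],
   [[8], [8], [8], [8], [8], [8], [8, 18, 25], [8], []],
   [[9], [9], [9], [9], [9], [9], [9], [9, 19], [9, 20], []],
   [[10], [10], [10], [10], [10], [10], [10], [10, 19, 20, 36], [10, 19, 37], [10], []],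
   [[11], [11], [11], [11], [11], [11], [11, 22], [11], [11], [11], [11], []],
   [[12], [12], [12], [12], [12], [12], [12], [12], [12, 21, 36], [12], [12], [12], []],
   [[13], [13], [13], [13], [13], [13], [13], [13, 21, 36], [13], [13], [13], [13], [13], []],
   [[14], [14], [14], [14], [14], [14], [14], [14, 23], [14, 24], [14], [14, 22], [14], [14, 26], [14, 27], []],
   [[15], [15], [15], [15], [15], [15], [15], [15, 23, 24, 36], [15, 23, 37], [15, 22], [15], [15], [15, 26, 27, 36], [15, 26, 37], [15], []],
   [[16], [16], [16], [16], [16], [16], [16], [16], [16], [16], [16], [16], [16, 29, 34], [16, 30, 34], [16], [16], []],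
   [[17], [17], [17], [17], [17], [17], [17], [17], [17, 25, 36], [17, 26], [17, 26, 27, 36], [17, 29, 35], [17], [17, 28, 36], [17], [17], [17], []],
   [[18], [18], [18], [18], [18], [18], [18], [18, 25, 36], [18], [18, 27], [18, 26, 37], [18, 30, 35], [18, 28, 36], [18], [18], [18], [18], [18], []],
   [[19], [19], [19], [19], [19], [19], [19, 26, 34], [19], [19], [19], [19], [19], [19], [19], [19, 29], [19, 30, 37], [19], [19, 31], [19, 32], []],
   [[20], [20], [20], [20], [20], [20], [20, 27, 34, 36, 37], [20], [20], [20], [20], [20], [20], [20], [20, 30, 36, 37], [20, 29, 30, 36], [20], [20, 31, 32, 36], [20, 31, 36, 37], [20], []],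
   [[21], [21], [21], [21], [21], [21], [21, 28, 36], [21], [21], [21], [21], [21], [21], [21], [21, 31, 35], [21, 32, 35, 37], [21, 33, 36], [21], [21], [21], [21], []],
   [[22], [22], [22], [22], [22], [22], [22], [22, 29, 33], [22, 30, 33], [22], [22], [22], [22], [22], [22], [22], [22], [22], [22], [22], [22], [22, 34, 36], []],
   [[23], [23], [23], [23], [23], [23], [23], [23], [23], [23, 29], [23, 30, 37], [23], [23, 31], [23, 32], [23], [23], [23], [23], [23], [23], [23, 33, 36], [23], [23], []],
   [[24], [24], [24], [24], [24], [24], [24], [24], [24], [24, 30, 36, 37], [24, 29, 30, 36], [24], [24, 31, 32, 36], [24, 31, 36, 37], [24], [24], [24], [24], [24], [24, 33, 36], [24], [24], [24], [24], []],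
   [[25], [25], [25], [25], [25], [25], [25], [25], [25], [25, 31, 34], [25, 32, 34, 37], [25, 33, 36], [25], [25], [25], [25], [25], [25], [25], [25], [25], [25], [25, 35, 36], [25], [25], []],
   [[26], [26], [26], [26], [26], [26], [26], [26, 31], [26, 32], [26], [26], [26], [26], [26], [26], [26], [26], [26], [26], [26], [26, 34, 36], [26], [26], [26], [26, 35, 36], [26], []],
   [[27], [27], [27], [27], [27], [27], [27], [27, 31, 32, 36], [27, 31, 36, 37], [27], [27], [27], [27], [27], [27], [27], [27], [27], [27], [27, 34, 36], [27], [27], [27], [27, 35, 36], [27], [27], [27], []],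
   [[28], [28], [28], [28], [28], [28], [28], [28], [28], [28], [28], [28, 34, 36], [28], [28], [28], [28], [28, 35, 36], [28], [28], [28], [28], [28], [28], [28], [28], [28], [28], [28], []],
   [[29], [29], [29], [29], [29], [29], [29], [29], [29, 33, 36], [29], [29], [29], [29], [29, 34, 36], [29], [29], [29], [29], [29, 35, 36], [29], [29], [29], [29], [29], [29], [29], [29], [29], [29], []],
   [[30], [30], [30], [30], [30], [30], [30], [30, 33, 36], [30], [30], [30], [30], [30, 34, 36], [30], [30], [30], [30], [30, 35, 36], [30], [30], [30], [30], [30], [30], [30], [30], [30], [30], [30], [30], []],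
   [[31], [31], [31], [31], [31], [31], [31], [31], [31], [31], [31, 34, 36], [31], [31], [31], [31], [31, 35, 36], [31], [31], [31], [31], [31], [31], [31], [31], [31], [31], [31], [31], [31], [31], [31], []],
   [[32], [32], [32], [32], [32], [32], [32], [32], [32], [32, 34, 36], [32], [32], [32], [32], [32, 35, 36], [32], [32], [32], [32], [32], [32], [32], [32], [32], [32], [32], [32], [32], [32], [32], [32], [32], []],
   [[33], [33], [33], [33], [33], [33], [33, 35, 36], [33], [33], [33], [33], [33], [33], [33], [33], [33], [33], [33], [33], [33], [33], [33], [33], [33], [33], [33], [33], [33], [33], [33], [33], [33], [33], []],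
   [[34], [34], [34], [34], [34], [34], [34], [34], [34], [34], [34], [34], [34], [34], [34], [34], [34], [34], [34], [34], [34], [34], [34], [34], [34], [34], [34], [34], [34], [34], [34], [34], [34], [34], []],
   [[35], [35], [35], [35], [35], [35], [35], [35], [35], [35], [35], [35], [35], [35], [35], [35], [35], [35], [35], [35], [35], [35], [35], [35], [35], [35], [35], [35], [35], [35], [35], [35], [35], [35], [35], []],
   [[36], [36], [36], [36], [36], [36], [36], [36], [36], [36], [36], [36], [36], [36], [36], [36], [36], [36], [36], [36], [36], [36], [36], [36], [36], [36], [36], [36], [36], [36], [36], [36], [36], [36], [36], [36], []],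
   [[37], [37], [37], [37], [37], [37], [37], [37], [37], [37], [37], [37], [37], [37], [37], [37], [37], [37], [37], [37], [37], [37], [37], [37], [37], [37], [37], [37], [37], [37], [37], [37], [37], [37], [37], [37], [37], []]]

def A5 : List (List Nat) :=
  [[], [], [], [], [], [], [6, 15, 16], [7], [8], [9, 11], [10], [11], [12, 19, 20, 36], [13, 19, 37], [14, 16], [15], [16], [17, 23, 24, 36], [18, 23, 37], [19], [20], [21], [22], [23], [24], [25], [26, 30, 37], [27, 29, 30, 36], [28, 32, 33, 37], [29], [30], [31, 33, 36], [32], [33], [34], [35], [36], [37]]

theorem lv5 (h : Lv 38 TX 6) : Lv 38 TX 5 :=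
  step (k := nat_lit 5) (T' := T5) (A := A5) (by decide +kernel) (by decide +kernel) (by decide +kernel) h

def T9 : List (List (List Nat)) :=
  [[[]],
   [[1], []],
   [[2], [2], []],
   [[3], [3], [3], []],
   [[4], [4], [4], [4], []],
   [[5], [5], [5], [5], [5], []],
   [[6], [6], [6], [6], [6], [6], []],
   [[7], [7], [7], [7], [7], [7], [7], []],
   [[8], [8], [8], [8], [8], [8], [8], [8], []],
   [[9], [9], [9], [9], [9], [9], [9], [9], [9], []],
   [[10], [10], [10], [10], [10], [10], [10], [10], [10], [10], []],
   [[11], [11], [11], [11], [11], [11], [11], [11], [11], [11], [11], []],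
   [[12], [12], [12], [12], [12], [12], [12], [12], [12], [12], [12], [12], []],
   [[13], [13], [13], [13], [13], [13], [13], [13], [13], [13], [13], [13], [13], []],
   [[14], [14], [14], [14], [14], [14], [14], [14], [14], [14], [14, 22], [14], [14, 26], [14, 27], []],
   [[15], [15], [15], [15], [15], [15], [15], [15], [15], [15], [15], [15], [15, 26, 27, 36], [15, 26, 37], [15], []],
   [[16], [16], [16], [16], [16], [16], [16], [16], [16], [16], [16], [16], [16, 29, 34], [16, 30, 34], [16], [16], []],
   [[17], [17], [17], [17], [17], [17], [17], [17], [17], [17], [17, 26, 27, 36], [17, 29, 35], [17], [17, 28, 36], [17], [17], [17], []],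
   [[18], [18], [18], [18], [18], [18], [18], [18], [18], [18], [18, 26, 37], [18, 30, 35], [18, 28, 36], [18], [18], [18], [18], [18], []],
   [[19], [19], [19], [19], [19], [19], [19], [19], [19], [19], [19], [19], [19], [19], [19, 29], [19, 30, 37], [19], [19, 31], [19, 32], []],
   [[20], [20], [20], [20], [20], [20], [20], [20], [20], [20], [20], [20], [20], [20], [20, 30, 36, 37], [20, 29, 30, 36], [20], [20, 31, 32, 36], [20, 31, 36, 37], [20], []],
   [[21], [21], [21], [21], [21], [21], [21], [21], [21], [21], [21], [21], [21], [21], [21, 31, 35], [21, 32, 35, 37], [21, 33, 36], [21], [21], [21], [21], []],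
   [[22], [22], [22], [22], [22], [22], [22], [22], [22], [22], [22], [22], [22], [22], [22], [22], [22], [22], [22], [22], [22], [22, 34, 36], []],
   [[23], [23], [23], [23], [23], [23], [23], [23], [23], [23], [23, 30, 37], [23], [23, 31], [23, 32], [23], [23], [23], [23], [23], [23], [23, 33, 36], [23], [23], []],
   [[24], [24], [24], [24], [24], [24], [24], [24], [24], [24], [24, 29, 30, 36], [24], [24, 31, 32, 36], [24, 31, 36, 37], [24], [24], [24], [24], [24], [24, 33, 36], [24], [24], [24], [24], []],
   [[25], [25], [25], [25], [25], [25], [25], [25], [25], [25], [25, 32, 34, 37], [25, 33, 36], [25], [25], [25], [25], [25], [25], [25], [25], [25], [25], [25, 35, 36], [25], [25], []],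
   [[26], [26], [26], [26], [26], [26], [26], [26], [26], [26], [26], [26], [26], [26], [26], [26], [26], [26], [26], [26], [26, 34, 36], [26], [26], [26], [26, 35, 36], [26], []],
   [[27], [27], [27], [27], [27], [27], [27], [27], [27], [27], [27], [27], [27], [27], [27], [27], [27], [27], [27], [27, 34, 36], [27], [27], [27], [27, 35, 36], [27], [27], [27], []],
   [[28], [28], [28], [28], [28], [28], [28], [28], [28], [28], [28], [28, 34, 36], [28], [28], [28], [28], [28, 35, 36], [28], [28], [28], [28], [28], [28], [28], [28], [28], [28], [28], []],
   [[29], [29], [29], [29], [29], [29], [29], [29], [29], [29], [29], [29], [29], [29, 34, 36], [29], [29], [29], [29], [29, 35, 36], [29], [29], [29], [29], [29], [29], [29], [29], [29], [29], []],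
   [[30], [30], [30], [30], [30], [30], [30], [30], [30], [30], [30], [30], [30, 34, 36], [30], [30], [30], [30], [30, 35, 36], [30], [30], [30], [30], [30], [30], [30], [30], [30], [30], [30], [30], []],
   [[31], [31], [31], [31], [31], [31], [31], [31], [31], [31], [31, 34, 36], [31], [31], [31], [31], [31, 35, 36], [31], [31], [31], [31], [31], [31], [31], [31], [31], [31], [31], [31], [31], [31], [31], []],
   [[32], [32], [32], [32], [32], [32], [32], [32], [32], [32], [32], [32], [32], [32], [32, 35, 36], [32], [32], [32], [32], [32], [32], [32], [32], [32], [32], [32], [32], [32], [32], [32], [32], [32], []],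
   [[33], [33], [33], [33], [33], [33], [33], [33], [33], [33], [33], [33], [33], [33], [33], [33], [33], [33], [33], [33], [33], [33], [33], [33], [33], [33], [33], [33], [33], [33], [33], [33], [33], []],
   [[34], [34], [34], [34], [34], [34], [34], [34], [34], [34], [34], [34], [34], [34], [34], [34], [34], [34], [34], [34], [34], [34], [34], [34], [34], [34], [34], [34], [34], [34], [34], [34], [34], [34], []],
   [[35], [35], [35], [35], [35], [35], [35], [35], [35], [35], [35], [35], [35], [35], [35], [35], [35], [35], [35], [35], [35], [35], [35], [35], [35], [35], [35], [35], [35], [35], [35], [35], [35], [35], [35], []],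
   [[36], [36], [36], [36], [36], [36], [36], [36], [36], [36], [36], [36], [36], [36], [36], [36], [36], [36], [36], [36], [36], [36], [36], [36], [36], [36], [36], [36], [36], [36], [36], [36], [36], [36], [36], [36], []],
   [[37], [37], [37], [37], [37], [37], [37], [37], [37], [37], [37], [37], [37], [37], [37], [37], [37], [37], [37], [37], [37], [37], [37], [37], [37], [37], [37], [37], [37], [37], [37], [37], [37], [37], [37], [37], [37], []]]

def A9 : List (List Nat) :=
  [[], [], [], [], [], [], [], [], [], [], [10], [11], [12], [13], [14], [15, 22], [16], [17, 26], [18, 27], [19], [20], [21], [22], [23, 29], [24, 30, 36, 37], [25, 31, 34], [26], [27], [28], [29], [30], [31], [32, 34, 36], [33], [34], [35], [36], [37]]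

theorem lv9 (h : Lv 38 TX 10) : Lv 38 TX 9 :=
  step (k := nat_lit 9) (T' := T9) (A := A9) (by decide +kernel) (by decide +kernel) (by decide +kernel) h

def T14 : List (List (List Nat)) :=
  [[[]],
   [[1], []],
   [[2], [2], []],
   [[3], [3], [3], []],
   [[4], [4], [4], [4], []],
   [[5], [5], [5], [5], [5], []],
   [[6], [6], [6], [6], [6], [6], []],
   [[7], [7], [7], [7], [7], [7], [7], []],
   [[8], [8], [8], [8], [8], [8], [8], [8], []],
   [[9], [9], [9], [9], [9], [9], [9], [9], [9], []],
   [[10], [10], [10], [10], [10], [10], [10], [10], [10], [10], []],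
   [[11], [11], [11], [11], [11], [11], [11], [11], [11], [11], [11], []],
   [[12], [12], [12], [12], [12], [12], [12], [12], [12], [12], [12], [12], []],
   [[13], [13], [13], [13], [13], [13], [13], [13], [13], [13], [13], [13], [13], []],
   [[14], [14], [14], [14], [14], [14], [14], [14], [14], [14], [14], [14], [14], [14], []],
   [[15], [15], [15], [15], [15], [15], [15], [15], [15], [15], [15], [15], [15], [15], [15], []],
   [[16], [16], [16], [16], [16], [16], [16], [16], [16], [16], [16], [16], [16], [16], [16], [16], []],
   [[17], [17], [17], [17], [17], [17], [17], [17], [17], [17], [17], [17], [17], [17], [17], [17], [17], []],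
   [[18], [18], [18], [18], [18], [18], [18], [18], [18], [18], [18], [18], [18], [18], [18], [18], [18], [18], []],
   [[19], [19], [19], [19], [19], [19], [19], [19], [19], [19], [19], [19], [19], [19], [19], [19, 30, 37], [19], [19, 31], [19, 32], []],
   [[20], [20], [20], [20], [20], [20], [20], [20], [20], [20], [20], [20], [20], [20], [20], [20, 29, 30, 36], [20], [20, 31, 32, 36], [20, 31, 36, 37], [20], []],
   [[21], [21], [21], [21], [21], [21], [21], [21], [21], [21], [21], [21], [21], [21], [21], [21, 32, 35, 37], [21, 33, 36], [21], [21], [21], [21], []],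
   [[22], [22], [22], [22], [22], [22], [22], [22], [22], [22], [22], [22], [22], [22], [22], [22], [22], [22], [22], [22], [22], [22, 34, 36], []],
   [[23], [23], [23], [23], [23], [23], [23], [23], [23], [23], [23], [23], [23], [23], [23], [23], [23], [23], [23], [23], [23, 33, 36], [23], [23], []],
   [[24], [24], [24], [24], [24], [24], [24], [24], [24], [24], [24], [24], [24], [24], [24], [24], [24], [24], [24], [24, 33, 36], [24], [24], [24], [24], []],
   [[25], [25], [25], [25], [25], [25], [25], [25], [25], [25], [25], [25], [25], [25], [25], [25], [25], [25], [25], [25], [25], [25], [25, 35, 36], [25], [25], []],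
   [[26], [26], [26], [26], [26], [26], [26], [26], [26], [26], [26], [26], [26], [26], [26], [26], [26], [26], [26], [26], [26, 34, 36], [26], [26], [26], [26, 35, 36], [26], []],
   [[27], [27], [27], [27], [27], [27], [27], [27], [27], [27], [27], [27], [27], [27], [27], [27], [27], [27], [27], [27, 34, 36], [27], [27], [27], [27, 35, 36], [27], [27], [27], []],
   [[28], [28], [28], [28], [28], [28], [28], [28], [28], [28], [28], [28], [28], [28], [28], [28], [28, 35, 36], [28], [28], [28], [28], [28], [28], [28], [28], [28], [28], [28], []],
   [[29], [29], [29], [29], [29], [29], [29], [29], [29], [29], [29], [29], [29], [29], [29], [29], [29], [29], [29, 35, 36], [29], [29], [29], [29], [29], [29], [29], [29], [29], [29], []],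
   [[30], [30], [30], [30], [30], [30], [30], [30], [30], [30], [30], [30], [30], [30], [30], [30], [30], [30, 35, 36], [30], [30], [30], [30], [30], [30], [30], [30], [30], [30], [30], [30], []],
   [[31], [31], [31], [31], [31], [31], [31], [31], [31], [31], [31], [31], [31], [31], [31], [31, 35, 36], [31], [31], [31], [31], [31], [31], [31], [31], [31], [31], [31], [31], [31], [31], [31], []],
   [[32], [32], [32], [32], [32], [32], [32], [32], [32], [32], [32], [32], [32], [32], [32], [32], [32], [32], [32], [32], [32], [32], [32], [32], [32], [32], [32], [32], [32], [32], [32], [32], []],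
   [[33], [33], [33], [33], [33], [33], [33], [33], [33], [33], [33], [33], [33], [33], [33], [33], [33], [33], [33], [33], [33], [33], [33], [33], [33], [33], [33], [33], [33], [33], [33], [33], [33], []],
   [[34], [34], [34], [34], [34], [34], [34], [34], [34], [34], [34], [34], [34], [34], [34], [34], [34], [34], [34], [34], [34], [34], [34], [34], [34], [34], [34], [34], [34], [34], [34], [34], [34], [34], []],
   [[35], [35], [35], [35], [35], [35], [35], [35], [35], [35], [35], [35], [35], [35], [35], [35], [35], [35], [35], [35], [35], [35], [35], [35], [35], [35], [35], [35], [35], [35], [35], [35], [35], [35], [35], []],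
   [[36], [36], [36], [36], [36], [36], [36], [36], [36], [36], [36], [36], [36], [36], [36], [36], [36], [36], [36], [36], [36], [36], [36], [36], [36], [36], [36], [36], [36], [36], [36], [36], [36], [36], [36], [36], []],
   [[37], [37], [37], [37], [37], [37], [37], [37], [37], [37], [37], [37], [37], [37], [37], [37], [37], [37], [37], [37], [37], [37], [37], [37], [37], [37], [37], [37], [37], [37], [37], [37], [37], [37], [37], [37], [37], []]]

def A14 : List (List Nat) :=
  [[], [], [], [], [], [], [], [], [], [], [], [], [], [], [], [15], [16], [17], [18], [19, 29], [20, 30, 36, 37], [21, 31, 35], [22], [23], [24], [25], [26], [27], [28], [29], [30], [31], [32, 35, 36], [33], [34], [35], [36], [37]]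

theorem lv14 (h : Lv 38 TX 15) : Lv 38 TX 14 :=
  step (k := nat_lit 14) (T' := T14) (A := A14) (by decide +kernel) (by decide +kernel) (by decide +kernel) h

def T16 : List (List (List Nat)) :=
  [[[]],
   [[1], []],
   [[2], [2], []],
   [[3], [3], [3], []],
   [[4], [4], [4], [4], []],
   [[5], [5], [5], [5], [5], []],
   [[6], [6], [6], [6], [6], [6], []],
   [[7], [7], [7], [7], [7], [7], [7], []],
   [[8], [8], [8], [8], [8], [8], [8], [8], []],
   [[9], [9], [9], [9], [9], [9], [9], [9], [9], []],
   [[10], [10], [10], [10], [10], [10], [10], [10], [10], [10], []],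
   [[11], [11], [11], [11], [11], [11], [11], [11], [11], [11], [11], []],
   [[12], [12], [12], [12], [12], [12], [12], [12], [12], [12], [12], [12], []],
   [[13], [13], [13], [13], [13], [13], [13], [13], [13], [13], [13], [13], [13], []],
   [[14], [14], [14], [14], [14], [14], [14], [14], [14], [14], [14], [14], [14], [14], []],
   [[15], [15], [15], [15], [15], [15], [15], [15], [15], [15], [15], [15], [15], [15], [15], []],
   [[16], [16], [16], [16], [16], [16], [16], [16], [16], [16], [16], [16], [16], [16], [16], [16], []],
   [[17], [17], [17], [17], [17], [17], [17], [17], [17], [17], [17], [17], [17], [17], [17], [17], [17], []],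
   [[18], [18], [18], [18], [18], [18], [18], [18], [18], [18], [18], [18], [18], [18], [18], [18], [18], [18], []],
   [[19], [19], [19], [19], [19], [19], [19], [19], [19], [19], [19], [19], [19], [19], [19], [19], [19], [19, 31], [19, 32], []],
   [[20], [20], [20], [20], [20], [20], [20], [20], [20], [20], [20], [20], [20], [20], [20], [20], [20], [20, 31, 32, 36], [20, 31, 36, 37], [20], []],
   [[21], [21], [21], [21], [21], [21], [21], [21], [21], [21], [21], [21], [21], [21], [21], [21], [21], [21], [21], [21], [21], []],
   [[22], [22], [22], [22], [22], [22], [22], [22], [22], [22], [22], [22], [22], [22], [22], [22], [22], [22], [22], [22], [22], [22, 34, 36], []],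
   [[23], [23], [23], [23], [23], [23], [23], [23], [23], [23], [23], [23], [23], [23], [23], [23], [23], [23], [23], [23], [23, 33, 36], [23], [23], []],
   [[24], [24], [24], [24], [24], [24], [24], [24], [24], [24], [24], [24], [24], [24], [24], [24], [24], [24], [24], [24, 33, 36], [24], [24], [24], [24], []],
   [[25], [25], [25], [25], [25], [25], [25], [25], [25], [25], [25], [25], [25], [25], [25], [25], [25], [25], [25], [25], [25], [25], [25, 35, 36], [25], [25], []],
   [[26], [26], [26], [26], [26], [26], [26], [26], [26], [26], [26], [26], [26], [26], [26], [26], [26], [26], [26], [26], [26, 34, 36], [26], [26], [26], [26, 35, 36], [26], []],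
   [[27], [27], [27], [27], [27], [27], [27], [27], [27], [27], [27], [27], [27], [27], [27], [27], [27], [27], [27], [27, 34, 36], [27], [27], [27], [27, 35, 36], [27], [27], [27], []],
   [[28], [28], [28], [28], [28], [28], [28], [28], [28], [28], [28], [28], [28], [28], [28], [28], [28], [28], [28], [28], [28], [28], [28], [28], [28], [28], [28], [28], []],
   [[29], [29], [29], [29], [29], [29], [29], [29], [29], [29], [29], [29], [29], [29], [29], [29], [29], [29], [29, 35, 36], [29], [29], [29], [29], [29], [29], [29], [29], [29], [29], []],
   [[30], [30], [30], [30], [30], [30], [30], [30], [30], [30], [30], [30], [30], [30], [30], [30], [30], [30, 35, 36], [30], [30], [30], [30], [30], [30], [30], [30], [30], [30], [30], [30], []],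
   [[31], [31], [31], [31], [31], [31], [31], [31], [31], [31], [31], [31], [31], [31], [31], [31], [31], [31], [31], [31], [31], [31], [31], [31], [31], [31], [31], [31], [31], [31], [31], []],
   [[32], [32], [32], [32], [32], [32], [32], [32], [32], [32], [32], [32], [32], [32], [32], [32], [32], [32], [32], [32], [32], [32], [32], [32], [32], [32], [32], [32], [32], [32], [32], [32], []],
   [[33], [33], [33], [33], [33], [33], [33], [33], [33], [33], [33], [33], [33], [33], [33], [33], [33], [33], [33], [33], [33], [33], [33], [33], [33], [33], [33], [33], [33], [33], [33], [33], [33], []],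
   [[34], [34], [34], [34], [34], [34], [34], [34], [34], [34], [34], [34], [34], [34], [34], [34], [34], [34], [34], [34], [34], [34], [34], [34], [34], [34], [34], [34], [34], [34], [34], [34], [34], [34], []],
   [[35], [35], [35], [35], [35], [35], [35], [35], [35], [35], [35], [35], [35], [35], [35], [35], [35], [35], [35], [35], [35], [35], [35], [35], [35], [35], [35], [35], [35], [35], [35], [35], [35], [35], [35], []],
   [[36], [36], [36], [36], [36], [36], [36], [36], [36], [36], [36], [36], [36], [36], [36], [36], [36], [36], [36], [36], [36], [36], [36], [36], [36], [36], [36], [36], [36], [36], [36], [36], [36], [36], [36], [36], []],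
   [[37], [37], [37], [37], [37], [37], [37], [37], [37], [37], [37], [37], [37], [37], [37], [37], [37], [37], [37], [37], [37], [37], [37], [37], [37], [37], [37], [37], [37], [37], [37], [37], [37], [37], [37], [37], [37], []]]

def A16 : List (List Nat) :=
  [[], [], [], [], [], [], [], [], [], [], [], [], [], [], [], [], [], [17], [18], [19], [20], [21, 33, 36], [22], [23], [24], [25], [26], [27], [28, 35, 36], [29], [30], [31], [32], [33], [34], [35], [36], [37]]

theorem lv16 (h : Lv 38 TX 17) : Lv 38 TX 16 :=
  step (k := nat_lit 16) (T' := T16) (A := A16) (by decide +kernel) (by decide +kernel) (by decide +kernel) h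

def T23 : List (List (List Nat)) :=
  [[[]],
   [[1], []],
   [[2], [2], []],
   [[3], [3], [3], []],
   [[4], [4], [4], [4], []],
   [[5], [5], [5], [5], [5], []],
   [[6], [6], [6], [6], [6], [6], []],
   [[7], [7], [7], [7], [7], [7], [7], []],
   [[8], [8], [8], [8], [8], [8], [8], [8], []],
   [[9], [9], [9], [9], [9], [9], [9], [9], [9], []],
   [[10], [10], [10], [10], [10], [10], [10], [10], [10], [10], []],
   [[11], [11], [11], [11], [11], [11], [11], [11], [11], [11], [11], []],
   [[12], [12], [12], [12], [12], [12], [12], [12], [12], [12], [12], [12], []],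
   [[13], [13], [13], [13], [13], [13], [13], [13], [13], [13], [13], [13], [13], []],
   [[14], [14], [14], [14], [14], [14], [14], [14], [14], [14], [14], [14], [14], [14], []],
   [[15], [15], [15], [15], [15], [15], [15], [15], [15], [15], [15], [15], [15], [15], [15], []],
   [[16], [16], [16], [16], [16], [16], [16], [16], [16], [16], [16], [16], [16], [16], [16], [16], []],
   [[17], [17], [17], [17], [17], [17], [17], [17], [17], [17], [17], [17], [17], [17], [17], [17], [17], []],
   [[18], [18], [18], [18], [18], [18], [18], [18], [18], [18], [18], [18], [18], [18], [18], [18], [18], [18], []],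
   [[19], [19], [19], [19], [19], [19], [19], [19], [19], [19], [19], [19], [19], [19], [19], [19], [19], [19], [19], []],
   [[20], [20], [20], [20], [20], [20], [20], [20], [20], [20], [20], [20], [20], [20], [20], [20], [20], [20], [20], [20], []],
   [[21], [21], [21], [21], [21], [21], [21], [21], [21], [21], [21], [21], [21], [21], [21], [21], [21], [21], [21], [21], [21], []],
   [[22], [22], [22], [22], [22], [22], [22], [22], [22], [22], [22], [22], [22], [22], [22], [22], [22], [22], [22], [22], [22], [22], []],
   [[23], [23], [23], [23], [23], [23], [23], [23], [23], [23], [23], [23], [23], [23], [23], [23], [23], [23], [23], [23], [23], [23], [23], []],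
   [[24], [24], [24], [24], [24], [24], [24], [24], [24], [24], [24], [24], [24], [24], [24], [24], [24], [24], [24], [24], [24], [24], [24], [24], []],
   [[25], [25], [25], [25], [25], [25], [25], [25], [25], [25], [25], [25], [25], [25], [25], [25], [25], [25], [25], [25], [25], [25], [25], [25], [25], []],
   [[26], [26], [26], [26], [26], [26], [26], [26], [26], [26], [26], [26], [26], [26], [26], [26], [26], [26], [26], [26], [26], [26], [26], [26], [26, 35, 36], [26], []],
   [[27], [27], [27], [27], [27], [27], [27], [27], [27], [27], [27], [27], [27], [27], [27], [27], [27], [27], [27], [27], [27], [27], [27], [27], [27], [27], [27], []],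
   [[28], [28], [28], [28], [28], [28], [28], [28], [28], [28], [28], [28], [28], [28], [28], [28], [28], [28], [28], [28], [28], [28], [28], [28], [28], [28], [28], [28], []],
   [[29], [29], [29], [29], [29], [29], [29], [29], [29], [29], [29], [29], [29], [29], [29], [29], [29], [29], [29], [29], [29], [29], [29], [29], [29], [29], [29], [29], [29], []],
   [[30], [30], [30], [30], [30], [30], [30], [30], [30], [30], [30], [30], [30], [30], [30], [30], [30], [30], [30], [30], [30], [30], [30], [30], [30], [30], [30], [30], [30], [30], []],
   [[31], [31], [31], [31], [31], [31], [31], [31], [31], [31], [31], [31], [31], [31], [31], [31], [31], [31], [31], [31], [31], [31], [31], [31], [31], [31], [31], [31], [31], [31], [31], []],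
   [[32], [32], [32], [32], [32], [32], [32], [32], [32], [32], [32], [32], [32], [32], [32], [32], [32], [32], [32], [32], [32], [32], [32], [32], [32], [32], [32], [32], [32], [32], [32], [32], []],
   [[33], [33], [33], [33], [33], [33], [33], [33], [33], [33], [33], [33], [33], [33], [33], [33], [33], [33], [33], [33], [33], [33], [33], [33], [33], [33], [33], [33], [33], [33], [33], [33], [33], []],
   [[34], [34], [34], [34], [34], [34], [34], [34], [34], [34], [34], [34], [34], [34], [34], [34], [34], [34], [34], [34], [34], [34], [34], [34], [34], [34], [34], [34], [34], [34], [34], [34], [34], [34], []],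
   [[35], [35], [35], [35], [35], [35], [35], [35], [35], [35], [35], [35], [35], [35], [35], [35], [35], [35], [35], [35], [35], [35], [35], [35], [35], [35], [35], [35], [35], [35], [35], [35], [35], [35], [35], []],
   [[36], [36], [36], [36], [36], [36], [36], [36], [36], [36], [36], [36], [36], [36], [36], [36], [36], [36], [36], [36], [36], [36], [36], [36], [36], [36], [36], [36], [36], [36], [36], [36], [36], [36], [36], [36], []],
   [[37], [37], [37], [37], [37], [37], [37], [37], [37], [37], [37], [37], [37], [37], [37], [37], [37], [37], [37], [37], [37], [37], [37], [37], [37], [37], [37], [37], [37], [37], [37], [37], [37], [37], [37], [37], [37], []]]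

def A23 : List (List Nat) :=
  [[], [], [], [], [], [], [], [], [], [], [], [], [], [], [], [], [], [], [], [], [], [], [], [], [24], [25], [26], [27, 35, 36], [28], [29], [30], [31], [32], [33], [34], [35], [36], [37]]

theorem lv23 (h : Lv 38 TX 24) : Lv 38 TX 23 :=
  step (k := nat_lit 23) (T' := T23) (A := A23) (by decide +kernel) (by decide +kernel) (by decide +kernel) h

def T27 : List (List (List Nat)) :=
  [[[]],
   [[1], []],
   [[2], [2], []],
   [[3], [3], [3], []],
   [[4], [4], [4], [4], []],
   [[5], [5], [5], [5], [5], []],
   [[6], [6], [6], [6], [6], [6], []],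
   [[7], [7], [7], [7], [7], [7], [7], []],
   [[8], [8], [8], [8], [8], [8], [8], [8], []],
   [[9], [9], [9], [9], [9], [9], [9], [9], [9], []],
   [[10], [10], [10], [10], [10], [10], [10], [10], [10], [10], []],
   [[11], [11], [11], [11], [11], [11], [11], [11], [11], [11], [11], []],
   [[12], [12], [12], [12], [12], [12], [12], [12], [12], [12], [12], [12], []],
   [[13], [13], [13], [13], [13], [13], [13], [13], [13], [13], [13], [13], [13], []],
   [[14], [14], [14], [14], [14], [14], [14], [14], [14], [14], [14], [14], [14], [14], []],
   [[15], [15], [15], [15], [15], [15], [15], [15], [15], [15], [15], [15], [15], [15], [15], []],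
   [[16], [16], [16], [16], [16], [16], [16], [16], [16], [16], [16], [16], [16], [16], [16], [16], []],
   [[17], [17], [17], [17], [17], [17], [17], [17], [17], [17], [17], [17], [17], [17], [17], [17], [17], []],
   [[18], [18], [18], [18], [18], [18], [18], [18], [18], [18], [18], [18], [18], [18], [18], [18], [18], [18], []],
   [[19], [19], [19], [19], [19], [19], [19], [19], [19], [19], [19], [19], [19], [19], [19], [19], [19], [19], [19], []],
   [[20], [20], [20], [20], [20], [20], [20], [20], [20], [20], [20], [20], [20], [20], [20], [20], [20], [20], [20], [20], []],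
   [[21], [21], [21], [21], [21], [21], [21], [21], [21], [21], [21], [21], [21], [21], [21], [21], [21], [21], [21], [21], [21], []],
   [[22], [22], [22], [22], [22], [22], [22], [22], [22], [22], [22], [22], [22], [22], [22], [22], [22], [22], [22], [22], [22], [22], []],
   [[23], [23], [23], [23], [23], [23], [23], [23], [23], [23], [23], [23], [23], [23], [23], [23], [23], [23], [23], [23], [23], [23], [23], []],
   [[24], [24], [24], [24], [24], [24], [24], [24], [24], [24], [24], [24], [24], [24], [24], [24], [24], [24], [24], [24], [24], [24], [24], [24], []],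
   [[25], [25], [25], [25], [25], [25], [25], [25], [25], [25], [25], [25], [25], [25], [25], [25], [25], [25], [25], [25], [25], [25], [25], [25], [25], []],
   [[26], [26], [26], [26], [26], [26], [26], [26], [26], [26], [26], [26], [26], [26], [26], [26], [26], [26], [26], [26], [26], [26], [26], [26], [26], [26], []],
   [[27], [27], [27], [27], [27], [27], [27], [27], [27], [27], [27], [27], [27], [27], [27], [27], [27], [27], [27], [27], [27], [27], [27], [27], [27], [27], [27], []],
   [[28], [28], [28], [28], [28], [28], [28], [28], [28], [28], [28], [28], [28], [28], [28], [28], [28], [28], [28], [28], [28], [28], [28], [28], [28], [28], [28], [28], []],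
   [[29], [29], [29], [29], [29], [29], [29], [29], [29], [29], [29], [29], [29], [29], [29], [29], [29], [29], [29], [29], [29], [29], [29], [29], [29], [29], [29], [29], [29], []],
   [[30], [30], [30], [30], [30], [30], [30], [30], [30], [30], [30], [30], [30], [30], [30], [30], [30], [30], [30], [30], [30], [30], [30], [30], [30], [30], [30], [30], [30], [30], []],
   [[31], [31], [31], [31], [31], [31], [31], [31], [31], [31], [31], [31], [31], [31], [31], [31], [31], [31], [31], [31], [31], [31], [31], [31], [31], [31], [31], [31], [31], [31], [31], []],
   [[32], [32], [32], [32], [32], [32], [32], [32], [32], [32], [32], [32], [32], [32], [32], [32], [32], [32], [32], [32], [32], [32], [32], [32], [32], [32], [32], [32], [32], [32], [32], [32], []],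
   [[33], [33], [33], [33], [33], [33], [33], [33], [33], [33], [33], [33], [33], [33], [33], [33], [33], [33], [33], [33], [33], [33], [33], [33], [33], [33], [33], [33], [33], [33], [33], [33], [33], []],
   [[34], [34], [34], [34], [34], [34], [34], [34], [34], [34], [34], [34], [34], [34], [34], [34], [34], [34], [34], [34], [34], [34], [34], [34], [34], [34], [34], [34], [34], [34], [34], [34], [34], [34], []],
   [[35], [35], [35], [35], [35], [35], [35], [35], [35], [35], [35], [35], [35], [35], [35], [35], [35], [35], [35], [35], [35], [35], [35], [35], [35], [35], [35], [35], [35], [35], [35], [35], [35], [35], [35], []],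
   [[36], [36], [36], [36], [36], [36], [36], [36], [36], [36], [36], [36], [36], [36], [36], [36], [36], [36], [36], [36], [36], [36], [36], [36], [36], [36], [36], [36], [36], [36], [36], [36], [36], [36], [36], [36], []],
   [[37], [37], [37], [37], [37], [37], [37], [37], [37], [37], [37], [37], [37], [37], [37], [37], [37], [37], [37], [37], [37], [37], [37], [37], [37], [37], [37], [37], [37], [37], [37], [37], [37], [37], [37], [37], [37], []]]

def A27 : List (List Nat) :=
  [[], [], [], [], [], [], [], [], [], [], [], [], [], [], [], [], [], [], [], [], [], [], [], [], [], [], [], [], [28], [29], [30], [31], [32], [33], [34], [35], [36], [37]]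

theorem lv27 (h : Lv 38 TX 28) : Lv 38 TX 27 :=
  step (k := nat_lit 27) (T' := T27) (A := A27) (by decide +kernel) (by decide +kernel) (by decide +kernel) h

def T28 : List (List (List Nat)) :=
  [[[]],
   [[1], []],
   [[2], [2], []],
   [[3], [3], [3], []],
   [[4], [4], [4], [4], []],
   [[5], [5], [5], [5], [5], []],
   [[6], [6], [6], [6], [6], [6], []],
   [[7], [7], [7], [7], [7], [7], [7], []],
   [[8], [8], [8], [8], [8], [8], [8], [8], []],
   [[9], [9], [9], [9], [9], [9], [9], [9], [9], []],
   [[10], [10], [10], [10], [10], [10], [10], [10], [10], [10], []],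
   [[11], [11], [11], [11], [11], [11], [11], [11], [11], [11], [11], []],
   [[12], [12], [12], [12], [12], [12], [12], [12], [12], [12], [12], [12], []],
   [[13], [13], [13], [13], [13], [13], [13], [13], [13], [13], [13], [13], [13], []],
   [[14], [14], [14], [14], [14], [14], [14], [14], [14], [14], [14], [14], [14], [14], []],
   [[15], [15], [15], [15], [15], [15], [15], [15], [15], [15], [15], [15], [15], [15], [15], []],
   [[16], [16], [16], [16], [16], [16], [16], [16], [16], [16], [16], [16], [16], [16], [16], [16], []],
   [[17], [17], [17], [17], [17], [17], [17], [17], [17], [17], [17], [17], [17], [17], [17], [17], [17], []],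
   [[18], [18], [18], [18], [18], [18], [18], [18], [18], [18], [18], [18], [18], [18], [18], [18], [18], [18], []],
   [[19], [19], [19], [19], [19], [19], [19], [19], [19], [19], [19], [19], [19], [19], [19], [19], [19], [19], [19], []],
   [[20], [20], [20], [20], [20], [20], [20], [20], [20], [20], [20], [20], [20], [20], [20], [20], [20], [20], [20], [20], []],
   [[21], [21], [21], [21], [21], [21], [21], [21], [21], [21], [21], [21], [21], [21], [21], [21], [21], [21], [21], [21], [21], []],
   [[22], [22], [22], [22], [22], [22], [22], [22], [22], [22], [22], [22], [22], [22], [22], [22], [22], [22], [22], [22], [22], [22], []],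
   [[23], [23], [23], [23], [23], [23], [23], [23], [23], [23], [23], [23], [23], [23], [23], [23], [23], [23], [23], [23], [23], [23], [23], []],
   [[24], [24], [24], [24], [24], [24], [24], [24], [24], [24], [24], [24], [24], [24], [24], [24], [24], [24], [24], [24], [24], [24], [24], [24], []],
   [[25], [25], [25], [25], [25], [25], [25], [25], [25], [25], [25], [25], [25], [25], [25], [25], [25], [25], [25], [25], [25], [25], [25], [25], [25], []],
   [[26], [26], [26], [26], [26], [26], [26], [26], [26], [26], [26], [26], [26], [26], [26], [26], [26], [26], [26], [26], [26], [26], [26], [26], [26], [26], []],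
   [[27], [27], [27], [27], [27], [27], [27], [27], [27], [27], [27], [27], [27], [27], [27], [27], [27], [27], [27], [27], [27], [27], [27], [27], [27], [27], [27], []],
   [[28], [28], [28], [28], [28], [28], [28], [28], [28], [28], [28], [28], [28], [28], [28], [28], [28], [28], [28], [28], [28], [28], [28], [28], [28], [28], [28], [28], []],
   [[29], [29], [29], [29], [29], [29], [29], [29], [29], [29], [29], [29], [29], [29], [29], [29], [29], [29], [29], [29], [29], [29], [29], [29], [29], [29], [29], [29], [29], []],
   [[30], [30], [30], [30], [30], [30], [30], [30], [30], [30], [30], [30], [30], [30], [30], [30], [30], [30], [30], [30], [30], [30], [30], [30], [30], [30], [30], [30], [30], [30], []],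
   [[31], [31], [31], [31], [31], [31], [31], [31], [31], [31], [31], [31], [31], [31], [31], [31], [31], [31], [31], [31], [31], [31], [31], [31], [31], [31], [31], [31], [31], [31], [31], []],
   [[32], [32], [32], [32], [32], [32], [32], [32], [32], [32], [32], [32], [32], [32], [32], [32], [32], [32], [32], [32], [32], [32], [32], [32], [32], [32], [32], [32], [32], [32], [32], [32], []],
   [[33], [33], [33], [33], [33], [33], [33], [33], [33], [33], [33], [33], [33], [33], [33], [33], [33], [33], [33], [33], [33], [33], [33], [33], [33], [33], [33], [33], [33], [33], [33], [33], [33], []],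
   [[34], [34], [34], [34], [34], [34], [34], [34], [34], [34], [34], [34], [34], [34], [34], [34], [34], [34], [34], [34], [34], [34], [34], [34], [34], [34], [34], [34], [34], [34], [34], [34], [34], [34], []],
   [[35], [35], [35], [35], [35], [35], [35], [35], [35], [35], [35], [35], [35], [35], [35], [35], [35], [35], [35], [35], [35], [35], [35], [35], [35], [35], [35], [35], [35], [35], [35], [35], [35], [35], [35], []],
   [[36], [36], [36], [36], [36], [36], [36], [36], [36], [36], [36], [36], [36], [36], [36], [36], [36], [36], [36], [36], [36], [36], [36], [36], [36], [36], [36], [36], [36], [36], [36], [36], [36], [36], [36], [36], []],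
   [[37], [37], [37], [37], [37], [37], [37], [37], [37], [37], [37], [37], [37], [37], [37], [37], [37], [37], [37], [37], [37], [37], [37], [37], [37], [37], [37], [37], [37], [37], [37], [37], [37], [37], [37], [37], [37], []]]

def A28 : List (List Nat) :=
  [[], [], [], [], [], [], [], [], [], [], [], [], [], [], [], [], [], [], [], [], [], [], [], [], [], [], [], [], [], [29], [30], [31], [32], [33], [34], [35], [36], [37]]

theorem lv28 (h : Lv 38 TX 29) : Lv 38 TX 28 :=
  step (k := nat_lit 28) (T' := T28) (A := A28) (by decide +kernel) (by decide +kernel) (by decide +kernel) h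

def T34 : List (List (List Nat)) :=
  [[[]],
   [[1], []],
   [[2], [2], []],
   [[3], [3], [3], []],
   [[4], [4], [4], [4], []],
   [[5], [5], [5], [5], [5], []],
   [[6], [6], [6], [6], [6], [6], []],
   [[7], [7], [7], [7], [7], [7], [7], []],
   [[8], [8], [8], [8], [8], [8], [8], [8], []],
   [[9], [9], [9], [9], [9], [9], [9], [9], [9], []],
   [[10], [10], [10], [10], [10], [10], [10], [10], [10], [10], []],
   [[11], [11], [11], [11], [11], [11], [11], [11], [11], [11], [11], []],
   [[12], [12], [12], [12], [12], [12], [12], [12], [12], [12], [12], [12], []],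
   [[13], [13], [13], [13], [13], [13], [13], [13], [13], [13], [13], [13], [13], []],
   [[14], [14], [14], [14], [14], [14], [14], [14], [14], [14], [14], [14], [14], [14], []],
   [[15], [15], [15], [15], [15], [15], [15], [15], [15], [15], [15], [15], [15], [15], [15], []],
   [[16], [16], [16], [16], [16], [16], [16], [16], [16], [16], [16], [16], [16], [16], [16], [16], []],
   [[17], [17], [17], [17], [17], [17], [17], [17], [17], [17], [17], [17], [17], [17], [17], [17], [17], []],
   [[18], [18], [18], [18], [18], [18], [18], [18], [18], [18], [18], [18], [18], [18], [18], [18], [18], [18], []],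
   [[19], [19], [19], [19], [19], [19], [19], [19], [19], [19], [19], [19], [19], [19], [19], [19], [19], [19], [19], []],
   [[20], [20], [20], [20], [20], [20], [20], [20], [20], [20], [20], [20], [20], [20], [20], [20], [20], [20], [20], [20], []],
   [[21], [21], [21], [21], [21], [21], [21], [21], [21], [21], [21], [21], [21], [21], [21], [21], [21], [21], [21], [21], [21], []],
   [[22], [22], [22], [22], [22], [22], [22], [22], [22], [22], [22], [22], [22], [22], [22], [22], [22], [22], [22], [22], [22], [22], []],
   [[23], [23], [23], [23], [23], [23], [23], [23], [23], [23], [23], [23], [23], [23], [23], [23], [23], [23], [23], [23], [23], [23], [23], []],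
   [[24], [24], [24], [24], [24], [24], [24], [24], [24], [24], [24], [24], [24], [24], [24], [24], [24], [24], [24], [24], [24], [24], [24], [24], []],
   [[25], [25], [25], [25], [25], [25], [25], [25], [25], [25], [25], [25], [25], [25], [25], [25], [25], [25], [25], [25], [25], [25], [25], [25], [25], []],
   [[26], [26], [26], [26], [26], [26], [26], [26], [26], [26], [26], [26], [26], [26], [26], [26], [26], [26], [26], [26], [26], [26], [26], [26], [26], [26], []],
   [[27], [27], [27], [27], [27], [27], [27], [27], [27], [27], [27], [27], [27], [27], [27], [27], [27], [27], [27], [27], [27], [27], [27], [27], [27], [27], [27], []],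
   [[28], [28], [28], [28], [28], [28], [28], [28], [28], [28], [28], [28], [28], [28], [28], [28], [28], [28], [28], [28], [28], [28], [28], [28], [28], [28], [28], [28], []],
   [[29], [29], [29], [29], [29], [29], [29], [29], [29], [29], [29], [29], [29], [29], [29], [29], [29], [29], [29], [29], [29], [29], [29], [29], [29], [29], [29], [29], [29], []],
   [[30], [30], [30], [30], [30], [30], [30], [30], [30], [30], [30], [30], [30], [30], [30], [30], [30], [30], [30], [30], [30], [30], [30], [30], [30], [30], [30], [30], [30], [30], []],
   [[31], [31], [31], [31], [31], [31], [31], [31], [31], [31], [31], [31], [31], [31], [31], [31], [31], [31], [31], [31], [31], [31], [31], [31], [31], [31], [31], [31], [31], [31], [31], []],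
   [[32], [32], [32], [32], [32], [32], [32], [32], [32], [32], [32], [32], [32], [32], [32], [32], [32], [32], [32], [32], [32], [32], [32], [32], [32], [32], [32], [32], [32], [32], [32], [32], []],
   [[33], [33], [33], [33], [33], [33], [33], [33], [33], [33], [33], [33], [33], [33], [33], [33], [33], [33], [33], [33], [33], [33], [33], [33], [33], [33], [33], [33], [33], [33], [33], [33], [33], []],
   [[34], [34], [34], [34], [34], [34], [34], [34], [34], [34], [34], [34], [34], [34], [34], [34], [34], [34], [34], [34], [34], [34], [34], [34], [34], [34], [34], [34], [34], [34], [34], [34], [34], [34], []],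
   [[35], [35], [35], [35], [35], [35], [35], [35], [35], [35], [35], [35], [35], [35], [35], [35], [35], [35], [35], [35], [35], [35], [35], [35], [35], [35], [35], [35], [35], [35], [35], [35], [35], [35], [35], []],
   [[36], [36], [36], [36], [36], [36], [36], [36], [36], [36], [36], [36], [36], [36], [36], [36], [36], [36], [36], [36], [36], [36], [36], [36], [36], [36], [36], [36], [36], [36], [36], [36], [36], [36], [36], [36], []],
   [[37], [37], [37], [37], [37], [37], [37], [37], [37], [37], [37], [37], [37], [37], [37], [37], [37], [37], [37], [37], [37], [37], [37], [37], [37], [37], [37], [37], [37], [37], [37], [37], [37], [37], [37], [37], [37], []]]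

def A34 : List (List Nat) :=
  [[], [], [], [], [], [], [], [], [], [], [], [], [], [], [], [], [], [], [], [], [], [], [], [], [], [], [], [], [], [], [], [], [], [], [], [35], [36], [37]]

theorem lv34 (h : Lv 38 TX 35) : Lv 38 TX 34 :=
  step (k := nat_lit 34) (T' := T34) (A := A34) (by decide +kernel) (by decide +kernel) (by decide +kernel) h

def T35 : List (List (List Nat)) :=
  [[[]],
   [[1], []],
   [[2], [2], []],
   [[3], [3], [3], []],
   [[4], [4], [4], [4], []],
   [[5], [5], [5], [5], [5], []],
   [[6], [6], [6], [6], [6], [6], []],
   [[7], [7], [7], [7], [7], [7], [7], []],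
   [[8], [8], [8], [8], [8], [8], [8], [8], []],
   [[9], [9], [9], [9], [9], [9], [9], [9], [9], []],
   [[10], [10], [10], [10], [10], [10], [10], [10], [10], [10], []],
   [[11], [11], [11], [11], [11], [11], [11], [11], [11], [11], [11], []],
   [[12], [12], [12], [12], [12], [12], [12], [12], [12], [12], [12], [12], []],
   [[13], [13], [13], [13], [13], [13], [13], [13], [13], [13], [13], [13], [13], []],
   [[14], [14], [14], [14], [14], [14], [14], [14], [14], [14], [14], [14], [14], [14], []],
   [[15], [15], [15], [15], [15], [15], [15], [15], [15], [15], [15], [15], [15], [15], [15], []],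
   [[16], [16], [16], [16], [16], [16], [16], [16], [16], [16], [16], [16], [16], [16], [16], [16], []],
   [[17], [17], [17], [17], [17], [17], [17], [17], [17], [17], [17], [17], [17], [17], [17], [17], [17], []],
   [[18], [18], [18], [18], [18], [18], [18], [18], [18], [18], [18], [18], [18], [18], [18], [18], [18], [18], []],
   [[19], [19], [19], [19], [19], [19], [19], [19], [19], [19], [19], [19], [19], [19], [19], [19], [19], [19], [19], []],
   [[20], [20], [20], [20], [20], [20], [20], [20], [20], [20], [20], [20], [20], [20], [20], [20], [20], [20], [20], [20], []],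
   [[21], [21], [21], [21], [21], [21], [21], [21], [21], [21], [21], [21], [21], [21], [21], [21], [21], [21], [21], [21], [21], []],
   [[22], [22], [22], [22], [22], [22], [22], [22], [22], [22], [22], [22], [22], [22], [22], [22], [22], [22], [22], [22], [22], [22], []],
   [[23], [23], [23], [23], [23], [23], [23], [23], [23], [23], [23], [23], [23], [23], [23], [23], [23], [23], [23], [23], [23], [23], [23], []],
   [[24], [24], [24], [24], [24], [24], [24], [24], [24], [24], [24], [24], [24], [24], [24], [24], [24], [24], [24], [24], [24], [24], [24], [24], []],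
   [[25], [25], [25], [25], [25], [25], [25], [25], [25], [25], [25], [25], [25], [25], [25], [25], [25], [25], [25], [25], [25], [25], [25], [25], [25], []],
   [[26], [26], [26], [26], [26], [26], [26], [26], [26], [26], [26], [26], [26], [26], [26], [26], [26], [26], [26], [26], [26], [26], [26], [26], [26], [26], []],
   [[27], [27], [27], [27], [27], [27], [27], [27], [27], [27], [27], [27], [27], [27], [27], [27], [27], [27], [27], [27], [27], [27], [27], [27], [27], [27], [27], []],
   [[28], [28], [28], [28], [28], [28], [28], [28], [28], [28], [28], [28], [28], [28], [28], [28], [28], [28], [28], [28], [28], [28], [28], [28], [28], [28], [28], [28], []],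
   [[29], [29], [29], [29], [29], [29], [29], [29], [29], [29], [29], [29], [29], [29], [29], [29], [29], [29], [29], [29], [29], [29], [29], [29], [29], [29], [29], [29], [29], []],
   [[30], [30], [30], [30], [30], [30], [30], [30], [30], [30], [30], [30], [30], [30], [30], [30], [30], [30], [30], [30], [30], [30], [30], [30], [30], [30], [30], [30], [30], [30], []],
   [[31], [31], [31], [31], [31], [31], [31], [31], [31], [31], [31], [31], [31], [31], [31], [31], [31], [31], [31], [31], [31], [31], [31], [31], [31], [31], [31], [31], [31], [31], [31], []],
   [[32], [32], [32], [32], [32], [32], [32], [32], [32], [32], [32], [32], [32], [32], [32], [32], [32], [32], [32], [32], [32], [32], [32], [32], [32], [32], [32], [32], [32], [32], [32], [32], []],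
   [[33], [33], [33], [33], [33], [33], [33], [33], [33], [33], [33], [33], [33], [33], [33], [33], [33], [33], [33], [33], [33], [33], [33], [33], [33], [33], [33], [33], [33], [33], [33], [33], [33], []],
   [[34], [34], [34], [34], [34], [34], [34], [34], [34], [34], [34], [34], [34], [34], [34], [34], [34], [34], [34], [34], [34], [34], [34], [34], [34], [34], [34], [34], [34], [34], [34], [34], [34], [34], []],
   [[35], [35], [35], [35], [35], [35], [35], [35], [35], [35], [35], [35], [35], [35], [35], [35], [35], [35], [35], [35], [35], [35], [35], [35], [35], [35], [35], [35], [35], [35], [35], [35], [35], [35], [35], []],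
   [[36], [36], [36], [36], [36], [36], [36], [36], [36], [36], [36], [36], [36], [36], [36], [36], [36], [36], [36], [36], [36], [36], [36], [36], [36], [36], [36], [36], [36], [36], [36], [36], [36], [36], [36], [36], []],
   [[37], [37], [37], [37], [37], [37], [37], [37], [37], [37], [37], [37], [37], [37], [37], [37], [37], [37], [37], [37], [37], [37], [37], [37], [37], [37], [37], [37], [37], [37], [37], [37], [37], [37], [37], [37], [37], []]]

def A35 : List (List Nat) :=
  [[], [], [], [], [], [], [], [], [], [], [], [], [], [], [], [], [], [], [], [], [], [], [], [], [], [], [], [], [], [], [], [], [], [], [], [], [36], [37]]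

theorem lv35 (h : Lv 38 TX 36) : Lv 38 TX 35 :=
  step (k := nat_lit 35) (T' := T35) (A := A35) (by decide +kernel) (by decide +kernel) (by decide +kernel) h

end Cfsg.Agent.Comp.E6M
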